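import Groth.Agent.Sga3.H809.GroupLikeLift
import Groth.Agent.Sga3A.ComodUnip2
import Mathlib.RingTheory.Bialgebra.Convolution
import Mathlib.RingTheory.HopfAlgebra.TensorProduct

/-!
# Splitting of an extension of a unipotent group by a diagonalizable group, algebraically closed case
-/

set_option autoImplicit false

universe u v w

open TensorProduct HopfRep

namespace Groth.Agent.Sga3.H809.CoreAC

open Groth.Agent.Sga3A.ComodUnip Groth.Agent.Sga3.H809.GroupLikeLift Groth.Agent.Sga3A.MTBasis
  Groth.Agent.Books.ComodBasic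

section Core

variable {K : Type u} [Field K] {A C D : Type v} [CommRing A] [HopfAlgebra K A]
  [CommRing C] [HopfAlgebra K C] [CommRing D] [HopfAlgebra K D]
variable (ψ : C →ₐc[K] A) (π : A →ₐc[K] D)
variable {M : Type w} [CommGroup M] (gb : GBasis K D M)

/-- Group-like elements of `A` which agree on the kernel are equal. -/
lemma groupLike_unique (hC : ∀ c : C, ∃ n, c ∈ soc K C C n) (hψ : Function.Injective ψ)
    (hcoinv : ∀ x : A, LinearMap.lTensor A (π : A →ₗ[K] D) (CoalgebraStruct.comul (R := K) x) =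
      x ⊗ₜ[K] (1 : D) → ∃ c, ψ c = x)
    (g g' : A) (hg : IsGroupLikeElem K g) (hg' : IsGroupLikeElem K g') (h : π g = π g') :
    g = g' := by
  have hu : IsGroupLikeElem K (g * HopfAlgebraStruct.antipode K g') := hg.mul hg'.antipode
  have h1 : π (g * HopfAlgebraStruct.antipode K g') = 1 := by
    rw [map_mul, h, ← map_mul, hg'.mul_antipode_cancel, map_one]
  obtain ⟨c, hc⟩ := hcoinv (g * HopfAlgebraStruct.antipode K g') (by
    rw [hu.comul_eq_tmul_self, LinearMap.lTensor_tmul]
    congr 1)
  have hcg : IsGroupLikeElem K c := by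
    refine ⟨?_, ?_⟩
    · rw [← CoalgHomClass.counit_comp_apply ψ, hc]
      exact hu.counit_eq_one
    · have hinj : Function.Injective (TensorProduct.map (ψ : C →ₗ[K] A) (ψ : C →ₗ[K] A)) :=
        TensorProduct.map_injective_of_flat_flat _ _ hψ hψ
      apply hinj
      have h2 : TensorProduct.map (ψ : C →ₗ[K] A) (ψ : C →ₗ[K] A)
          (CoalgebraStruct.comul (R := K) c) = CoalgebraStruct.comul (R := K) (ψ c) :=
        CoalgHomClass.map_comp_comul_apply ψ c
      rw [h2, hc, hu.comul_eq_tmul_self, TensorProduct.map_tmul]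
      change _ = ψ c ⊗ₜ[K] ψ c
      rw [hc]
  obtain ⟨n, hn⟩ := hC c
  have h3 : c = 1 := groupLike_eq_one_of_mem_soc c hcg n hn
  rw [h3, map_one] at hc
  calc g = g * (HopfAlgebraStruct.antipode K g' * g') := by
        rw [hg'.antipode_mul_cancel, mul_one]
    _ = (g * HopfAlgebraStruct.antipode K g') * g' := by ring
    _ = g' := by rw [← hc, one_mul]

/-- The lifts of the characters form a monoid homomorphism. -/
theorem exists_section [IsAlgClosed K] [IsDomain C]
    (hC : ∀ c : C, ∃ n, c ∈ soc K C C n) (hψ : Function.Injective ψ)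
    (hcoinv : ∀ x : A, LinearMap.lTensor A (π : A →ₗ[K] D) (CoalgebraStruct.comul (R := K) x) =
      x ⊗ₜ[K] (1 : D) → ∃ c, ψ c = x)
    (hπ : Function.Surjective π) :
    ∃ s : M →* A, ∀ m, IsGroupLikeElem K (s m) ∧ π (s m) = gb.b m := by
  choose s hs hs' using exists_lift π gb ψ hC hψ hcoinv hπ
  have huniq := groupLike_unique ψ π hC hψ hcoinv
  refine ⟨{ toFun := s, map_one' := ?_, map_mul' := ?_ }, fun m => ⟨hs m, hs' m⟩⟩
  · exact huniq _ _ (hs 1) .one (by rw [hs', gb.one, map_one])
  · intro m n
    exact huniq _ _ (hs _) ((hs m).mul (hs n)) (by rw [hs', gb.mul, map_mul, hs', hs'])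

/-- The algebra is spanned by the products of elements of `C` with the lifted characters. -/
theorem span_eq_top (s : M →* A) (hs : ∀ m, IsGroupLikeElem K (s m) ∧ π (s m) = gb.b m)
    (hcoinv : ∀ x : A, LinearMap.lTensor A (π : A →ₗ[K] D) (CoalgebraStruct.comul (R := K) x) =
      x ⊗ₜ[K] (1 : D) → ∃ c, ψ c = x) :
    Submodule.span K {x : A | ∃ (c : C) (m : M), x = ψ c * s m} = ⊤ := by
  classical
  rw [eq_top_iff]
  rintro x -
  set z : A ⊗[K] D := LinearMap.lTensor A (π : A →ₗ[K] D) (CoalgebraStruct.comul (R := K) x) with hz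
  -- the components
  have hcomp : ∀ m, slice A (gb.b.coord m) z ∈ Submodule.span K {x : A | ∃ (c : C) (m : M), x = ψ c * s m} := by
    intro m
    set y := slice A (gb.b.coord m) z with hy
    have hy' : y = dact A (gb.b.coord m ∘ₗ (π : A →ₗ[K] D)) x := by
      rw [hy, hz, dact_apply]
      change _ = slice A _ (CoalgebraStruct.comul (R := K) x)
      generalize CoalgebraStruct.comul (R := K) x = w
      induction w with
      | zero => simp
      | add x y hx hy => simp only [map_add, hx, hy]
      | tmul p q => simp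
    have h1 : LinearMap.lTensor A (π : A →ₗ[K] D) (CoalgebraStruct.comul (R := K) y) = y ⊗ₜ[K] gb.b m := by
      refine ext_slice fun h => ?_
      have e1 : ∀ w : A ⊗[K] A, slice A h (LinearMap.lTensor A (π : A →ₗ[K] D) w) =
          slice A (h ∘ₗ (π : A →ₗ[K] D)) w := by
        intro w
        induction w with
        | zero => simp
        | add x y hx hy => simp only [map_add, hx, hy]
        | tmul p q => simp
      have e2 : slice A (h ∘ₗ (π : A →ₗ[K] D)) (CoalgebraStruct.comul (R := K) y) =
          dact A (h ∘ₗ (π : A →ₗ[K] D)) y := rfl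
      rw [e1, e2, hy', dact_dact, slice_tmul]
      have e3 : dmul K A (h ∘ₗ (π : A →ₗ[K] D)) (gb.b.coord m ∘ₗ (π : A →ₗ[K] D)) =
          h (gb.b m) • (gb.b.coord m ∘ₗ (π : A →ₗ[K] D)) := by
        refine LinearMap.ext fun a => ?_
        have e4 : ∀ w : A ⊗[K] A, (LinearMap.mul' K K) (TensorProduct.map
            (h ∘ₗ (π : A →ₗ[K] D)) (gb.b.coord m ∘ₗ (π : A →ₗ[K] D)) w) =
            (LinearMap.mul' K K) (TensorProduct.map h (gb.b.coord m)
              (TensorProduct.map (π : A →ₗ[K] D) (π : A →ₗ[K] D) w)) := by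
          intro w
          rw [← LinearMap.comp_apply (TensorProduct.map h (gb.b.coord m)), ← TensorProduct.map_comp]
        have e5 : (LinearMap.mul' K K) ∘ₗ (TensorProduct.map h (gb.b.coord m)) ∘ₗ
            CoalgebraStruct.comul (R := K) = h (gb.b m) • gb.b.coord m := by
          refine gb.b.ext fun n => ?_
          simp only [LinearMap.comp_apply, LinearMap.smul_apply]
          rw [(gb.gl n).comul_eq_tmul_self, TensorProduct.map_tmul, LinearMap.mul'_apply,
            Module.Basis.coord_apply, Module.Basis.repr_self, Finsupp.single_apply]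
          split_ifs with hnm
          · subst hnm; simp
          · simp
        change (LinearMap.mul' K K) (TensorProduct.map
            (h ∘ₗ (π : A →ₗ[K] D)) (gb.b.coord m ∘ₗ (π : A →ₗ[K] D)) (CoalgebraStruct.comul (R := K) a)) = _
        rw [e4]
        have e6 : TensorProduct.map (π : A →ₗ[K] D) (π : A →ₗ[K] D)
          (CoalgebraStruct.comul (R := K) a) = CoalgebraStruct.comul (R := K) (π a) :=
          CoalgHomClass.map_comp_comul_apply π a
        rw [e6]
        exact LinearMap.congr_fun e5 (π a)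
      rw [e3]
      simp only [dact_apply, slice, LinearMap.lTensor_smul, LinearMap.smul_apply, LinearMap.comp_apply,
        map_smul]
    have h2 : LinearMap.lTensor A (π : A →ₗ[K] D) (CoalgebraStruct.comul (R := K) (y * s m⁻¹)) =
        (y * s m⁻¹) ⊗ₜ[K] (1 : D) := by
      rw [Bialgebra.comul_mul, (hs m⁻¹).1.comul_eq_tmul_self]
      have e1 : ∀ w w' : A ⊗[K] A, LinearMap.lTensor A (π : A →ₗ[K] D) (w * w') =
          LinearMap.lTensor A (π : A →ₗ[K] D) w * LinearMap.lTensor A (π : A →ₗ[K] D) w' := by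
        intro w w'
        exact map_mul (Algebra.TensorProduct.map (AlgHom.id K A) (π : A →ₐ[K] D)) w w'
      rw [e1, h1, LinearMap.lTensor_tmul, Algebra.TensorProduct.tmul_mul_tmul]
      congr 1
      change gb.b m * π (s m⁻¹) = 1
      rw [(hs m⁻¹).2, ← gb.mul, mul_inv_cancel, gb.one]
    obtain ⟨c, hc⟩ := hcoinv _ h2
    refine Submodule.subset_span ⟨c, m, ?_⟩
    rw [hc, mul_assoc, ← map_mul, inv_mul_cancel, map_one, mul_one]
  -- `x` is the sum of the components
  have hx : x = TensorProduct.rid K A (LinearMap.lTensor A (CoalgebraStruct.counit (R := K)) z) := by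
    have h1 : ∀ w : A ⊗[K] A, LinearMap.lTensor A (CoalgebraStruct.counit (R := K))
        (LinearMap.lTensor A (π : A →ₗ[K] D) w) = LinearMap.lTensor A (CoalgebraStruct.counit (R := K)) w := by
      intro w
      induction w with
      | zero => simp
      | add x y hx hy => simp only [map_add, hx, hy]
      | tmul p q =>
        simp only [LinearMap.lTensor_tmul]
        congr 1
        exact CoalgHomClass.counit_comp_apply π q
    rw [hz, h1, Coalgebra.lTensor_counit_comul, TensorProduct.rid_tmul, one_smul]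
  rw [hx, ← (TensorProduct.equivFinsuppOfBasisRight (M := A) gb.b).symm_apply_apply z,
    TensorProduct.equivFinsuppOfBasisRight_symm_apply, Finsupp.sum, map_sum, map_sum]
  refine Submodule.sum_mem _ fun m _ => ?_
  rw [TensorProduct.equivFinsuppOfBasisRight_apply, LinearMap.lTensor_tmul, TensorProduct.rid_tmul]
  exact Submodule.smul_mem _ _ (hcomp m)

/-- algebra maps out of `A` are determined on `C` and on the lifted characters -/
lemma algHom_ext_of_span (s : M →* A)
    (hspan : Submodule.span K {x : A | ∃ (c : C) (m : M), x = ψ c * s m} = ⊤)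
    {R : Type*} [CommRing R] [Algebra K R] (f g : A →ₐ[K] R) (h1 : ∀ c, f (ψ c) = g (ψ c))
    (h2 : ∀ m, f (s m) = g (s m)) : f = g := by
  have : f.toLinearMap = g.toLinearMap := by
    refine LinearMap.ext_on hspan ?_
    rintro _ ⟨c, m, rfl⟩
    simp only [AlgHom.toLinearMap_apply, map_mul, h1, h2]
  exact AlgHom.toLinearMap_injective this

include gb in
/-- **The algebraically closed case**, strong form: the retraction exists, and it is the only
algebra map which is the identity on `C` and trivial on group-like elements. -/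
theorem exists_retraction [IsAlgClosed K] [IsDomain C]
    (hC : ∀ c : C, ∃ n, c ∈ soc K C C n) (hψ : Function.Injective ψ)
    (hπ : Function.Surjective π)
    (hπψ : ∀ c, π (ψ c) = algebraMap K D (CoalgebraStruct.counit (R := K) c))
    (hcoinv : ∀ x : A, LinearMap.lTensor A (π : A →ₗ[K] D) (CoalgebraStruct.comul (R := K) x) =
      x ⊗ₜ[K] (1 : D) → ∃ c, ψ c = x) :
    ∃ r : A →ₐc[K] C, r.comp ψ = BialgHom.id K C ∧
      ∀ f : A →ₐ[K] C, (∀ c, f (ψ c) = c) → (∀ g, IsGroupLikeElem K g → f g = 1) →
        f = (r : A →ₐ[K] C) := by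
  obtain ⟨s, hs⟩ := exists_section ψ π gb hC hψ hcoinv hπ
  have hspan := span_eq_top ψ π gb s hs hcoinv
  have hone : ∀ (r : A →ₐc[K] C) (m : M), r (s m) = 1 := by
    intro r m
    obtain ⟨n, hn⟩ := hC (r (s m))
    exact groupLike_eq_one_of_mem_soc _ ((hs m).1.map r) n hn
  -- the algebra map `D → A` with `m ↦ s (m⁻¹)`
  let sinv : M →* A := s.comp (invMonoidHom : M →* M)
  let t : D →ₐ[K] A := (MonoidAlgebra.lift K A M sinv).comp
    ((gb.bialgEquiv.symm : D ≃ₐ[K] MonoidAlgebra K M) : D →ₐ[K] MonoidAlgebra K M)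
  have ht : ∀ m, t (gb.b m) = s m⁻¹ := by
    intro m
    have h1 : gb.bialgEquiv.symm (gb.b m) = MonoidAlgebra.single m 1 := by
      have e1 : gb.bialgEquiv (MonoidAlgebra.single m 1) = gb.b m := by
        rw [gb.bialgEquiv_single, one_smul]
      rw [← e1]
      exact EquivLike.left_inv gb.bialgEquiv _
    change MonoidAlgebra.lift K A M sinv (gb.bialgEquiv.symm (gb.b m)) = _
    rw [h1, MonoidAlgebra.lift_single, one_smul]
    rfl
  let r0 : A →ₐ[K] A := (Algebra.TensorProduct.lift (AlgHom.id K A) (t.comp (π : A →ₐ[K] D))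
    (fun _ _ => Commute.all _ _)).comp (Bialgebra.comulAlgHom K A)
  have hr0 : ∀ a, r0 a = Algebra.TensorProduct.lift (AlgHom.id K A) (t.comp (π : A →ₐ[K] D))
    (fun _ _ => Commute.all _ _) (CoalgebraStruct.comul (R := K) a) := fun a => rfl
  have hr0s : ∀ m, r0 (s m) = 1 := by
    intro m
    rw [hr0, (hs m).1.comul_eq_tmul_self, Algebra.TensorProduct.lift_tmul]
    change s m * t (π (s m)) = 1
    rw [(hs m).2, ht, ← map_mul, mul_inv_cancel, map_one]
  have hr0ψ : ∀ c, r0 (ψ c) = ψ c := by
    intro c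
    have h1 : CoalgebraStruct.comul (R := K) (ψ c) =
        TensorProduct.map (ψ : C →ₗ[K] A) (ψ : C →ₗ[K] A) (CoalgebraStruct.comul (R := K) c) :=
      (CoalgHomClass.map_comp_comul_apply ψ c).symm
    have h2 : ∀ w : C ⊗[K] C, Algebra.TensorProduct.lift (AlgHom.id K A) (t.comp (π : A →ₐ[K] D))
        (fun _ _ => Commute.all _ _) (TensorProduct.map (ψ : C →ₗ[K] A) (ψ : C →ₗ[K] A) w) =
        ψ (TensorProduct.rid K C (LinearMap.lTensor C (CoalgebraStruct.counit (R := K)) w)) := by
      intro w
      induction w with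
      | zero => simp
      | add x y hx hy => simp only [map_add, hx, hy]
      | tmul p q =>
        rw [TensorProduct.map_tmul, Algebra.TensorProduct.lift_tmul, LinearMap.lTensor_tmul,
          TensorProduct.rid_tmul, map_smul]
        change ψ p * t (π (ψ q)) = _
        rw [hπψ, AlgHom.commutes, Algebra.smul_def, mul_comm]
    rw [hr0, h1, h2, Coalgebra.lTensor_counit_comul, TensorProduct.rid_tmul, one_smul]
  -- the retraction as an algebra map
  have hrange : ∀ a, r0 a ∈ (ψ : C →ₐ[K] A).range := by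
    intro a
    have ha : a ∈ Submodule.span K {x : A | ∃ (c : C) (m : M), x = ψ c * s m} := by
      rw [hspan]; trivial
    induction ha using Submodule.span_induction with
    | mem x hx =>
      obtain ⟨c, m, rfl⟩ := hx
      rw [map_mul, hr0s, hr0ψ, mul_one]
      exact ⟨c, rfl⟩
    | zero => rw [map_zero]; exact zero_mem _
    | add x y _ _ hx hy => rw [map_add]; exact add_mem hx hy
    | smul c x _ hx => rw [map_smul]; exact Subalgebra.smul_mem _ hx c
  let r1 : A →ₐ[K] C := ((AlgEquiv.ofInjective (ψ : C →ₐ[K] A) hψ).symm :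
    (ψ : C →ₐ[K] A).range →ₐ[K] C).comp (r0.codRestrict _ hrange)
  have hr1 : ∀ a, ψ (r1 a) = r0 a := by
    intro a
    have := AlgEquiv.apply_symm_apply (AlgEquiv.ofInjective (ψ : C →ₐ[K] A) hψ)
      (r0.codRestrict _ hrange a)
    exact congrArg Subtype.val this
  have hr1ψ : ∀ c, r1 (ψ c) = c := fun c => hψ (by rw [hr1, hr0ψ])
  have hr1s : ∀ m, r1 (s m) = 1 := fun m => hψ (by rw [hr1, hr0s, map_one])
  let r : A →ₐc[K] C := BialgHom.ofAlgHom r1
    (by
      refine algHom_ext_of_span ψ s hspan _ _ (fun c => ?_) (fun m => ?_)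
      · change CoalgebraStruct.counit (R := K) (r1 (ψ c)) = CoalgebraStruct.counit (R := K) (ψ c)
        rw [hr1ψ, CoalgHomClass.counit_comp_apply]
      · change CoalgebraStruct.counit (R := K) (r1 (s m)) = CoalgebraStruct.counit (R := K) (s m)
        rw [hr1s, Bialgebra.counit_one, (hs m).1.counit_eq_one])
    (by
      refine algHom_ext_of_span ψ s hspan _ _ (fun c => ?_) (fun m => ?_)
      · change Algebra.TensorProduct.map r1 r1 (CoalgebraStruct.comul (R := K) (ψ c)) =
          CoalgebraStruct.comul (R := K) (r1 (ψ c))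
        rw [hr1ψ]
        have h1 : CoalgebraStruct.comul (R := K) (ψ c) =
            TensorProduct.map (ψ : C →ₗ[K] A) (ψ : C →ₗ[K] A) (CoalgebraStruct.comul (R := K) c) :=
          (CoalgHomClass.map_comp_comul_apply ψ c).symm
        rw [h1]
        have h2 : ∀ w : C ⊗[K] C, Algebra.TensorProduct.map r1 r1
            (TensorProduct.map (ψ : C →ₗ[K] A) (ψ : C →ₗ[K] A) w) = w := by
          intro w
          induction w with
          | zero => simp
          | add x y hx hy => simp only [map_add, hx, hy]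
          | tmul p q =>
            change r1 (ψ p) ⊗ₜ[K] r1 (ψ q) = _
            rw [hr1ψ, hr1ψ]
        exact h2 _
      · change Algebra.TensorProduct.map r1 r1 (CoalgebraStruct.comul (R := K) (s m)) =
          CoalgebraStruct.comul (R := K) (r1 (s m))
        rw [hr1s, (hs m).1.comul_eq_tmul_self, Algebra.TensorProduct.map_tmul, hr1s,
          Bialgebra.comul_one]
        rfl)
  refine ⟨r, ?_, ?_⟩
  · refine DFunLike.ext _ _ fun c => ?_
    exact hr1ψ c
  · intro f hf hfg
    refine algHom_ext_of_span ψ s hspan _ _ (fun c => ?_) (fun m => ?_)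
    · exact (hf c).trans (hr1ψ c).symm
    · exact (hfg _ (hs m).1).trans (hone r m).symm

/-- A bialgebra map to a unipotent Hopf algebra is trivial on group-like elements. -/
lemma map_groupLike_eq_one (hC : ∀ c : C, ∃ n, c ∈ soc K C C n) (r : A →ₐc[K] C) (g : A)
    (hg : IsGroupLikeElem K g) : r g = 1 := by
  obtain ⟨n, hn⟩ := hC (r g)
  exact groupLike_eq_one_of_mem_soc _ (hg.map r) n hn

include gb in
/-- **The algebraically closed case.** -/
theorem existsUnique_retraction [IsAlgClosed K] [IsDomain C]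
    (hC : ∀ c : C, ∃ n, c ∈ soc K C C n) (hψ : Function.Injective ψ)
    (hπ : Function.Surjective π)
    (hπψ : ∀ c, π (ψ c) = algebraMap K D (CoalgebraStruct.counit (R := K) c))
    (hcoinv : ∀ x : A, LinearMap.lTensor A (π : A →ₗ[K] D) (CoalgebraStruct.comul (R := K) x) =
      x ⊗ₜ[K] (1 : D) → ∃ c, ψ c = x) :
    ∃! r : A →ₐc[K] C, r.comp ψ = BialgHom.id K C := by
  obtain ⟨r, hr, huniq⟩ := exists_retraction ψ π gb hC hψ hπ hπψ hcoinv
  refine ⟨r, hr, fun r' hr' => ?_⟩
  have h1 := huniq (r' : A →ₐ[K] C) (fun c => DFunLike.congr_fun hr' c)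
    (fun g hg => map_groupLike_eq_one hC r' g hg)
  refine DFunLike.ext _ _ fun a => ?_
  exact DFunLike.congr_fun h1 a

end Core

end Groth.Agent.Sga3.H809.CoreAC
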