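import Groth.Agent.Sga3.H809.SimpleOne
import Groth.Agent.Books.ComodHom
import Groth.Agent.Books.ComodTrig
import Groth.Agent.Sga3A.MTBasis

/-!
# Lifting group-like elements along an extension of a unipotent group by a diagonalizable group
-/

set_option autoImplicit false

universe u v w

open TensorProduct HopfRep

namespace Groth.Agent.Sga3.H809.GroupLikeLift

open Groth.Agent.Sga3A.ComodUnip Groth.Agent.Sga3.H809.SimpleOne Groth.Agent.Sga3A.MTBasis
  Groth.Agent.Books.ComodHom Groth.Agent.Books.ComodBasic

section Mat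

variable {K : Type u} [Field K] {A : Type v} [CommRing A] [HopfAlgebra K A]
variable {V : Type w} [AddCommGroup V] [Module K V] [Comod K A V]
variable {ι : Type*} [Fintype ι] [DecidableEq ι]

/-- the matrix of coefficients of a comodule with a basis -/
noncomputable def mat (b : Module.Basis ι K V) : Matrix ι ι A :=
  Matrix.of fun i j => coeffMap A (b.coord i) (b j)

omit [DecidableEq ι] in
lemma dact_basis (b : Module.Basis ι K V) (f : A →ₗ[K] K) (j : ι) :
    dact V f (b j) = ∑ l, f (mat (A := A) b l j) • b l := by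
  conv_lhs => rw [← b.sum_repr (dact V f (b j))]
  refine Finset.sum_congr rfl fun l _ => ?_
  congr 1
  exact (apply_coeffMap (b.coord l) f (b j)).symm

omit [DecidableEq ι] in
lemma coact_basis (b : Module.Basis ι K V) (j : ι) :
    Comod.coact (k := K) (A := A) (b j) = ∑ l, b l ⊗ₜ[K] mat (A := A) b l j := by
  refine ext_slice fun f => ?_
  rw [map_sum]
  simp only [slice_tmul]
  exact dact_basis b f j

lemma isMultMat (b : Module.Basis ι K V) : IsMultMat K (mat (A := A) b) where
  comul i j := by
    have h1 := isComodHom_coeffMap (A := A) (b.coord i) (b j)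
    rw [coact_basis, map_sum] at h1
    simp only [LinearMap.rTensor_tmul] at h1
    exact h1
  counit i j := by
    change CoalgebraStruct.counit (R := K) (coeffMap A (b.coord i) (b j)) = _
    rw [counit_coeffMap, Module.Basis.coord_apply, Module.Basis.repr_self, Finsupp.single_apply]
    simp only [eq_comm]

lemma toLin_mat (b : Module.Basis ι K V) (f : A →ₗ[K] K) :
    Matrix.toLin b b ((mat (A := A) b).map f) = dact V f := by
  refine b.ext fun j => ?_
  rw [Matrix.toLin_self, dact_basis]
  rfl

/-- Schur's lemma in matrix form. -/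
lemma schur [IsAlgClosed K] (hs : IsSimpleComod K A V) (b : Module.Basis ι K V)
    (φ : Matrix ι ι K)
    (h : φ.map (algebraMap K A) * mat (A := A) b = mat (A := A) b * φ.map (algebraMap K A)) :
    ∃ r : K, φ = Matrix.scalar ι r := by
  have : Module.Finite K V := Module.Finite.of_basis b
  have : Nontrivial V := hs.1
  set F : V →ₗ[K] V := Matrix.toLin b b φ with hF
  have hcomm : ∀ f : A →ₗ[K] K, F ∘ₗ dact V f = dact V f ∘ₗ F := by
    intro f
    rw [← toLin_mat b f, hF, ← Matrix.toLin_mul, ← Matrix.toLin_mul]
    congr 1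
    ext i j
    have h1 := congrArg f (congrFun (congrFun h i) j)
    rw [Matrix.mul_apply, Matrix.mul_apply, map_sum, map_sum] at h1
    rw [Matrix.mul_apply, Matrix.mul_apply]
    simp only [Matrix.map_apply] at h1 ⊢
    calc ∑ l, φ i l * f (mat (A := A) b l j) = ∑ l, f (algebraMap K A (φ i l) * mat (A := A) b l j) :=
          Finset.sum_congr rfl fun l _ => by rw [← Algebra.smul_def, map_smul, smul_eq_mul]
      _ = ∑ l, f (mat (A := A) b i l * algebraMap K A (φ l j)) := h1
      _ = _ := Finset.sum_congr rfl fun l _ => by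
          rw [mul_comm, ← Algebra.smul_def, map_smul, smul_eq_mul, mul_comm]
  obtain ⟨r, hr⟩ := Module.End.exists_eigenvalue F
  refine ⟨r, ?_⟩
  have hsub : IsSubcomod (k := K) (A := A) (Module.End.eigenspace F r) := by
    rw [isSubcomod_iff_dact]
    intro f w hw
    rw [Module.End.mem_eigenspace_iff] at hw ⊢
    have h1 := LinearMap.congr_fun (hcomm f) w
    rw [LinearMap.comp_apply, LinearMap.comp_apply, hw, map_smul] at h1
    exact h1
  have htop : Module.End.eigenspace F r = ⊤ := (hs.2 _ hsub).resolve_left hr
  have hF' : F = r • LinearMap.id := by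
    refine LinearMap.ext fun v => ?_
    have : v ∈ Module.End.eigenspace F r := by rw [htop]; trivial
    rw [Module.End.mem_eigenspace_iff] at this
    rw [this]
    rfl
  have h2 : LinearMap.toMatrix b b F = φ := by rw [hF, LinearMap.toMatrix_toLin]
  rw [← h2, hF', map_smul, LinearMap.toMatrix_id]
  ext i j
  simp [Matrix.one_apply, Matrix.diagonal_apply]

end Mat

section Eigen

variable {K : Type u} [Field K] {A C D : Type v} [CommRing A] [HopfAlgebra K A]
  [CommRing C] [HopfAlgebra K C] [CommRing D] [HopfAlgebra K D]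
variable (ψ : C →ₐc[K] A) (π : A →ₐc[K] D)

/-- Every nonzero subcomodule contains an eigenvector. -/
theorem exists_eigen [IsAlgClosed K] [IsDomain C] [Coalgebra.IsCocomm K D]
    (hC : ∀ c : C, ∃ n, c ∈ soc K C C n) (hψ : Function.Injective ψ)
    (hcoinv : ∀ x : A, LinearMap.lTensor A (π : A →ₗ[K] D) (CoalgebraStruct.comul (R := K) x) =
      x ⊗ₜ[K] (1 : D) → ∃ c, ψ c = x)
    {V : Type w} [AddCommGroup V] [Module K V] [Comod K A V] (W : Submodule K V)
    (hW : IsSubcomod (k := K) (A := A) W) (hne : W ≠ ⊥) :
    ∃ v ∈ W, v ≠ 0 ∧ ∃ g : A, IsGroupLikeElem K g ∧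
      Comod.coact (k := K) (A := A) v = v ⊗ₜ[K] g := by
  classical
  let _ := Groth.Agent.Books.ComodTrig.subComod W hW
  have : Nontrivial W := (Submodule.nontrivial_iff_ne_bot).mpr hne
  obtain ⟨U, hU, hfin, hsimple⟩ :=
    Groth.Agent.Books.ComodTrig.exists_simple_subcomod (k := K) (A := A) (V := W)
  let _ := Groth.Agent.Books.ComodTrig.subComod U hU
  have hnt : Nontrivial U := hsimple.1
  let b := Module.finBasis K U
  have hsub : ∀ i j : Fin (Module.finrank K U), i = j := fun i j =>
    subsingleton_of_simple ψ π hC hψ hcoinv (isMultMat (A := A) b)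
      (fun φ h => schur hsimple b φ h) i j
  have hpos : 0 < Module.finrank K U := Module.finrank_pos
  let i₀ : Fin (Module.finrank K U) := ⟨0, hpos⟩
  have : Unique (Fin (Module.finrank K U)) := ⟨⟨i₀⟩, fun i => hsub i _⟩
  have hg : IsGroupLikeElem K (mat (A := A) b i₀ i₀) := by
    refine ⟨?_, ?_⟩
    · have := (isMultMat (A := A) b).counit i₀ i₀
      rwa [if_pos rfl] at this
    · have := (isMultMat (A := A) b).comul i₀ i₀
      rw [Fintype.sum_eq_single i₀ (fun j hj => absurd (hsub j i₀) hj)] at this
      exact this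
  have hco : Comod.coact (k := K) (A := A) (b i₀) = b i₀ ⊗ₜ[K] mat (A := A) b i₀ i₀ := by
    rw [coact_basis]
    exact Fintype.sum_eq_single i₀ (fun j hj => absurd (hsub j i₀) hj)
  refine ⟨((b i₀ : U) : W), Submodule.coe_mem _, ?_, _, hg, ?_⟩
  · intro h0
    have h1 : (b i₀ : U) = 0 := by
      apply Subtype.ext
      apply Subtype.ext
      exact h0
    exact b.ne_zero i₀ h1
  · have h1 : Comod.coact (k := K) (A := A) ((b i₀ : U) : W) =
        ((b i₀ : U) : W) ⊗ₜ[K] mat (A := A) b i₀ i₀ := by
      rw [← Groth.Agent.Books.ComodTrig.rTensor_subCoact U hU (b i₀)]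
      change U.subtype.rTensor A (Comod.coact (k := K) (A := A) (b i₀)) = _
      rw [hco]
      rfl
    rw [← Groth.Agent.Books.ComodTrig.rTensor_subCoact W hW ((b i₀ : U) : W)]
    change W.subtype.rTensor A (Comod.coact (k := K) (A := A) ((b i₀ : U) : W)) = _
    rw [h1]
    rfl

end Eigen

section Lift

variable {K : Type u} [Field K] {A D : Type v} [CommRing A] [HopfAlgebra K A]
  [CommRing D] [HopfAlgebra K D]

/-- right contraction commutes with the comultiplication on the left factor -/
lemma comul_dact (f : A →ₗ[K] K) (x : A) :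
    CoalgebraStruct.comul (R := K) (dact A f x) =
      LinearMap.lTensor A (dact A f) (CoalgebraStruct.comul (R := K) x) := by
  have h1 : ∀ z : A ⊗[K] A, CoalgebraStruct.comul (R := K) (slice A f z) =
      LinearMap.lTensor A (slice A f) (TensorProduct.assoc K A A A
        (LinearMap.rTensor A (CoalgebraStruct.comul (R := K)) z)) := by
    intro z
    induction z with
    | zero => simp
    | add x y hx hy => simp only [map_add, hx, hy]
    | tmul y a =>
      rw [slice_tmul, map_smul, LinearMap.rTensor_tmul]
      generalize CoalgebraStruct.comul (R := K) y = w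
      induction w with
      | zero => simp
      | add x y hx hy => simp only [map_add, TensorProduct.add_tmul, smul_add, hx, hy]
      | tmul p q => simp [TensorProduct.tmul_smul]
  change CoalgebraStruct.comul (R := K) (slice A f (CoalgebraStruct.comul (R := K) x)) = _
  rw [h1, Coalgebra.coassoc_apply]
  change _ = LinearMap.lTensor A (slice A f ∘ₗ CoalgebraStruct.comul (R := K)) _
  rw [LinearMap.lTensor_comp]
  rfl

/-- left contraction -/
noncomputable def lact (f : A →ₗ[K] K) : A →ₗ[K] A :=
  (TensorProduct.lid K A).toLinearMap ∘ₗ LinearMap.rTensor A f ∘ₗ CoalgebraStruct.comul (R := K)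

lemma lact_apply (f : A →ₗ[K] K) (x : A) :
    lact f x = TensorProduct.lid K A (LinearMap.rTensor A f (CoalgebraStruct.comul (R := K) x)) := rfl

/-- left contraction commutes with the comultiplication on the right factor -/
lemma comul_lact (f : A →ₗ[K] K) (x : A) :
    CoalgebraStruct.comul (R := K) (lact f x) =
      LinearMap.rTensor A (lact f) (CoalgebraStruct.comul (R := K) x) := by
  have h1 : ∀ z : A ⊗[K] A, CoalgebraStruct.comul (R := K) (TensorProduct.lid K A
      (LinearMap.rTensor A f z)) =
      TensorProduct.lid K (A ⊗[K] A) (LinearMap.rTensor (A ⊗[K] A) f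
        (LinearMap.lTensor A (CoalgebraStruct.comul (R := K)) z)) := by
    intro z
    induction z with
    | zero => simp
    | add x y hx hy => simp only [map_add, hx, hy]
    | tmul y a => simp
  have h2 : ∀ z : A ⊗[K] A, LinearMap.rTensor A (lact f) z =
      TensorProduct.lid K (A ⊗[K] A) (LinearMap.rTensor (A ⊗[K] A) f
        (TensorProduct.assoc K A A A (LinearMap.rTensor A (CoalgebraStruct.comul (R := K)) z))) := by
    intro z
    induction z with
    | zero => simp
    | add x y hx hy => simp only [map_add, hx, hy]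
    | tmul y a =>
      rw [LinearMap.rTensor_tmul, LinearMap.rTensor_tmul, lact_apply]
      generalize CoalgebraStruct.comul (R := K) y = w
      induction w with
      | zero => simp
      | add x y hx hy => simp only [map_add, TensorProduct.add_tmul, hx, hy]
      | tmul p q => simp [TensorProduct.smul_tmul']
  rw [lact_apply, h1, h2, Coalgebra.coassoc_apply]

variable (π : A →ₐc[K] D)

/-- the elements of weight `m` for left translation by the kernel -/
noncomputable def lwt (m : D) : Submodule K A :=
  LinearMap.ker (LinearMap.rTensor A (π : A →ₗ[K] D) ∘ₗ CoalgebraStruct.comul (R := K) -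
    TensorProduct.mk K D A m)

lemma mem_lwt (m : D) (x : A) : x ∈ lwt π m ↔
    LinearMap.rTensor A (π : A →ₗ[K] D) (CoalgebraStruct.comul (R := K) x) = m ⊗ₜ[K] x := by
  rw [lwt, LinearMap.mem_ker, LinearMap.sub_apply, sub_eq_zero]
  rfl

lemma isSubcomod_lwt (m : D) : IsSubcomod (k := K) (A := A) (lwt π m) := by
  rw [isSubcomod_iff_dact]
  intro f x hx
  rw [mem_lwt] at hx ⊢
  rw [comul_dact]
  have h1 : ∀ z : A ⊗[K] A, LinearMap.rTensor A (π : A →ₗ[K] D) (LinearMap.lTensor A (dact A f) z) =
      LinearMap.lTensor D (dact A f) (LinearMap.rTensor A (π : A →ₗ[K] D) z) := by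
    intro z
    induction z with
    | zero => simp
    | add x y hx hy => simp only [map_add, hx, hy]
    | tmul y a => simp
  rw [h1, hx, LinearMap.lTensor_tmul]

variable {M : Type*} [CommGroup M] (gb : GBasis K D M)

lemma gb_contract (m : M) (d : D) :
    TensorProduct.lid K D (LinearMap.rTensor D (gb.b.coord m) (CoalgebraStruct.comul (R := K) d)) =
      gb.b.coord m d • gb.b m := by
  classical
  have h : (TensorProduct.lid K D).toLinearMap ∘ₗ LinearMap.rTensor D (gb.b.coord m) ∘ₗ
      CoalgebraStruct.comul (R := K) = (LinearMap.toSpanSingleton K D (gb.b m)) ∘ₗ gb.b.coord m := by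
    refine gb.b.ext fun n => ?_
    simp only [LinearMap.comp_apply, LinearEquiv.coe_coe]
    rw [(gb.gl n).comul_eq_tmul_self, LinearMap.rTensor_tmul, TensorProduct.lid_tmul,
      LinearMap.toSpanSingleton_apply, Module.Basis.coord_apply, Module.Basis.repr_self,
      Finsupp.single_apply]
    split_ifs with h
    · rw [h]
    · simp
  exact LinearMap.congr_fun h d

include gb in
lemma isCocomm_of_gbasis : Coalgebra.IsCocomm K D := by
  constructor
  refine gb.b.ext fun n => ?_
  simp [(gb.gl n).comul_eq_tmul_self]

lemma lwt_ne_bot (hπ : Function.Surjective π) (m : M) : lwt π (gb.b m) ≠ ⊥ := by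
  classical
  obtain ⟨a, ha⟩ := hπ (gb.b m)
  let f : A →ₗ[K] K := gb.b.coord m ∘ₗ (π : A →ₗ[K] D)
  have h1 : ∀ y : A, π (lact f y) = gb.b.coord m (π y) • gb.b m := by
    intro y
    rw [← gb_contract, ← CoalgHomClass.map_comp_comul_apply π, lact_apply]
    generalize CoalgebraStruct.comul (R := K) y = z
    induction z with
    | zero => simp
    | add x y hx hy => simp only [map_add, hx, hy]
    | tmul p q => simp [f]
  intro hbot
  have hmem : lact f a ∈ lwt π (gb.b m) := by
    rw [mem_lwt, comul_lact]
    have h2 : ∀ z : A ⊗[K] A, LinearMap.rTensor A (π : A →ₗ[K] D) (LinearMap.rTensor A (lact f) z) =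
        gb.b m ⊗ₜ[K] (TensorProduct.lid K A (LinearMap.rTensor A f z)) := by
      intro z
      induction z with
      | zero => simp
      | add x y hx hy => simp only [map_add, hx, hy, TensorProduct.tmul_add]
      | tmul y a =>
        rw [LinearMap.rTensor_tmul, LinearMap.rTensor_tmul, LinearMap.rTensor_tmul,
          TensorProduct.lid_tmul, TensorProduct.tmul_smul, TensorProduct.smul_tmul']
        congr 1
        exact h1 y
    rw [h2]
    rfl
  rw [hbot, Submodule.mem_bot] at hmem
  have h3 := h1 a
  rw [hmem, map_zero, ha, Module.Basis.coord_apply, Module.Basis.repr_self,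
    Finsupp.single_eq_same, one_smul] at h3
  exact gb.b.ne_zero m h3.symm

variable {C : Type v} [CommRing C] [HopfAlgebra K C] (ψ : C →ₐc[K] A)

/-- Characters of the kernel lift to characters of the group. -/
theorem exists_lift [IsAlgClosed K] [IsDomain C]
    (hC : ∀ c : C, ∃ n, c ∈ soc K C C n) (hψ : Function.Injective ψ)
    (hcoinv : ∀ x : A, LinearMap.lTensor A (π : A →ₗ[K] D) (CoalgebraStruct.comul (R := K) x) =
      x ⊗ₜ[K] (1 : D) → ∃ c, ψ c = x)
    (hπ : Function.Surjective π) (m : M) : ∃ g : A, IsGroupLikeElem K g ∧ π g = gb.b m := by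
  have := isCocomm_of_gbasis gb
  obtain ⟨v, hv, hv0, g, hg, hco⟩ := exists_eigen ψ π hC hψ hcoinv (V := A) (lwt π (gb.b m))
    (isSubcomod_lwt π _) (lwt_ne_bot π gb hπ m)
  refine ⟨g, hg, ?_⟩
  change CoalgebraStruct.comul (R := K) v = v ⊗ₜ[K] g at hco
  have h1 : v = CoalgebraStruct.counit (R := K) v • g := by
    have h2 := Coalgebra.rTensor_counit_comul (R := K) v
    rw [hco, LinearMap.rTensor_tmul] at h2
    have h3 := congrArg (TensorProduct.lid K A) h2
    rw [TensorProduct.lid_tmul, TensorProduct.lid_tmul, one_smul] at h3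
    exact h3.symm
  have h2 : CoalgebraStruct.counit (R := K) v ≠ 0 := by
    intro h0
    rw [h0, zero_smul] at h1
    exact hv0 h1
  have h3 : g ∈ lwt π (gb.b m) := by
    rw [h1] at hv
    exact (Submodule.smul_mem_iff _ h2).mp hv
  rw [mem_lwt, hg.comul_eq_tmul_self, LinearMap.rTensor_tmul] at h3
  have h4 := congrArg (fun z => TensorProduct.rid K D (LinearMap.lTensor D
    (CoalgebraStruct.counit (R := K) (A := A)) z)) h3
  simp only [LinearMap.lTensor_tmul, TensorProduct.rid_tmul] at h4
  rw [hg.counit_eq_one, one_smul, one_smul] at h4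
  exact h4

end Lift

end Groth.Agent.Sga3.H809.GroupLikeLift
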