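import Groth.Agent.Sga3.H809.Transfer

/-!
# Trivial extensions: the theorem over a perfect field
-/

set_option autoImplicit false

universe u v w

open TensorProduct HopfRep

namespace Groth.Agent.Sga3.H809.Main

open Groth.Agent.Sga3A.ComodUnip Groth.Agent.Sga3A.MTBasis Groth.Agent.Sga3.H809.CoreAC
  Groth.Agent.Sga3.H809.Transfer

/-- multiplicative type over a field becomes diagonalizable over an algebraically closed extension -/
theorem isDiag_of_isMultTypeConst (k K : Type u) [Field k] [Field K] [Algebra k K] [IsAlgClosed K]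
    (D : Type u) [CommRing D] [HopfAlgebra k D] [Algebra.FiniteType k D]
    (h : SGA3b.IsMultTypeConst k D) : SGA3b.IsDiag K (K ⊗[k] D) := by
  obtain ⟨T, _, _, hff, hfin, het, hT⟩ := Groth.Agent.Sga3A.MTQuasi.exists_etale_local h
  have hnt : Nontrivial T := (FaithfulSMul.algebraMap_injective k T).nontrivial
  obtain ⟨m, hm⟩ := Ideal.exists_maximal T
  let q : PrimeSpectrum T := ⟨m, hm.isPrime⟩
  obtain ⟨w, hw, hd⟩ := hT q
  let _ : Field (T ⧸ m) := Ideal.Quotient.field m
  have : Module.Finite k (T ⧸ m) := inferInstance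
  have : Algebra.IsAlgebraic k (T ⧸ m) := inferInstance
  let f : T →ₐ[k] K := (IsAlgClosed.lift (R := k) (S := T ⧸ m) (M := K)).comp (Ideal.Quotient.mkₐ k m)
  have hfw : f w ≠ 0 := by
    intro h0
    have h1 : Ideal.Quotient.mk m w = 0 := by
      have h2 : Function.Injective (IsAlgClosed.lift (R := k) (S := T ⧸ m) (M := K)) :=
        RingHom.injective _
      apply h2
      rw [map_zero]
      exact h0
    exact hw (Ideal.Quotient.eq_zero_iff_mem.mp h1)
  let F : Localization.Away w →+* K := IsLocalization.Away.lift w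
    (g := (f : T →+* K)) (isUnit_iff_ne_zero.mpr hfw)
  let _ : Algebra (Localization.Away w) K := F.toAlgebra
  have : IsScalarTower k (Localization.Away w) K := by
    refine IsScalarTower.of_algebraMap_eq fun x => ?_
    change algebraMap k K x = F (algebraMap k (Localization.Away w) x)
    rw [IsScalarTower.algebraMap_apply k T (Localization.Away w), IsLocalization.Away.lift_eq]
    exact (f.commutes x).symm
  exact Groth.Agent.Sga3A.MultBC.isDiag_tower (S := Localization.Away w)
    (Groth.Agent.Sga3A.MultBC.IsDiag.baseChange K hd)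

/-- The coordinate ring of a smooth connected group over the algebraic closure is a domain. -/
theorem isDomain_bc (k K : Type u) [Field k] [Field K] [Algebra k K] [IsAlgClosed K]
    [Algebra.IsAlgebraic k K] (C : Type u) [CommRing C] [HopfAlgebra k C] [Algebra.FiniteType k C]
    [Algebra.FormallySmooth k C] (hU : ∀ e : C, IsIdempotentElem e → e = 0 ∨ e = 1) :
    IsDomain (K ⊗[k] C) := by
  have hfp : Algebra.FinitePresentation K (K ⊗[k] C) :=
    Algebra.FinitePresentation.of_finiteType.mp inferInstance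
  have hsm : Algebra.Smooth K (K ⊗[k] C) := ⟨inferInstance, hfp⟩
  have hred : IsReduced (K ⊗[k] C) := Groth.Agent.Ega43.SmoothReduced.isReduced_of_smooth K _
  refine Groth.Agent.Books.HopfConn.isDomain_of_isReduced (k := K) (A := K ⊗[k] C) ?_
  intro e he
  let c : K ⊗[k] C ≃ₐ[k] C ⊗[k] K := Algebra.TensorProduct.comm k K C
  have h1 : IsIdempotentElem (c e) := he.map c
  rcases Groth.Agent.Books.HopfConn.idempotent_baseChange (K := K) (Bialgebra.counitAlgHom k C) hU
    (c e) h1 with h | h
  · left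
    apply c.injective
    rw [h, map_zero]
  · right
    apply c.injective
    rw [h, map_one]

/-- Extensions of a smooth connected unipotent group by a group of multiplicative type over a
perfect field are trivial, with a unique splitting. -/
theorem main (k : Type u) [Field k] [PerfectField k]
    (A C : Type u) [CommRing A] [HopfAlgebra k A] [Algebra.FiniteType k A] [CommRing C]
    [HopfAlgebra k C] [Algebra.FiniteType k C] [Algebra.FormallySmooth k C]
    (hC : HopfRep.IsUnipotent k C) (ψ : C →ₐc[k] A) (hψ : Function.Injective ψ)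
    (J : Ideal A) [J.IsHopfIdeal k]
    (hJ : J = Ideal.map (ψ : C →+* A) (RingHom.ker (Bialgebra.counitAlgHom k C)))
    (hH : SGA3b.IsMultTypeConst k (A ⧸ J))
    (hU : ∀ e : C, IsIdempotentElem e → e = 0 ∨ e = 1) :
    ∃! r : A →ₐc[k] C, r.comp ψ = BialgHom.id k C := by
  let K := AlgebraicClosure k
  let π : A →ₐc[k] A ⧸ J := Bialgebra.Quotient.mkBialgHom (R := k) J
  have hft : Algebra.FiniteType k (A ⧸ J) :=
    Algebra.FiniteType.of_surjective (Ideal.Quotient.mkₐ k J) (Ideal.Quotient.mkₐ_surjective k J)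
  obtain ⟨M, _, ⟨e⟩⟩ := isDiag_of_isMultTypeConst k K (A ⧸ J) hH
  let gb : GBasis K (K ⊗[k] (A ⧸ J)) M := GBasis.ofBialgEquiv e
  have hdom : IsDomain (K ⊗[k] C) := isDomain_bc k K C hU
  have hCK : ∀ c : K ⊗[k] C, ∃ n, c ∈ soc K (K ⊗[k] C) (K ⊗[k] C) n := fun c =>
    exists_mem_soc_baseChange K hC c
  have hπψ : ∀ c, π (ψ c) = algebraMap k (A ⧸ J) (CoalgebraStruct.counit (R := k) c) :=
    mk_psi ψ J hJ
  obtain ⟨rK, hrK, huniq⟩ := exists_retraction (bcHom K ψ) (bcHom K π) gb hCK
    (bcHom_injective K ψ hψ) (bcHom_surjective K π Ideal.Quotient.mk_surjective)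
    (bc_pi_psi K ψ π hπψ)
    (exists_of_coinv_bc K ψ π hπψ (exists_of_coinv ψ J hJ))
  have hrK' : ∀ c, rK (bcHom K ψ c) = c := fun c => DFunLike.congr_fun hrK c
  have hgal : IsGalois k K := { }
  -- Galois invariance of the retraction
  have hfix : ∀ (σ : K ≃ₐ[k] K) (x : K ⊗[k] A),
      bc C (σ : K →ₐ[k] K) (rK (bc A (σ.symm : K →ₐ[k] K) x)) = rK x := by
    intro σ
    let f : (K ⊗[k] A) →ₐ[K] (K ⊗[k] C) :=
      { toRingHom := ((bc C (σ : K →ₐ[k] K)).toRingHom.comp
          ((rK : (K ⊗[k] A) →ₐ[K] (K ⊗[k] C)) : (K ⊗[k] A) →+* (K ⊗[k] C))).comp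
            (bc A (σ.symm : K →ₐ[k] K)).toRingHom
        commutes' := by
          intro κ
          change bc C (σ : K →ₐ[k] K) (rK (bc A (σ.symm : K →ₐ[k] K) (algebraMap K _ κ))) = _
          rw [Algebra.algebraMap_eq_smul_one, bc_smul, map_one, map_smul, map_one, bc_smul, map_one,
            Algebra.algebraMap_eq_smul_one]
          congr 1
          exact σ.apply_symm_apply κ }
    have hf : ∀ x, f x = bc C (σ : K →ₐ[k] K) (rK (bc A (σ.symm : K →ₐ[k] K) x)) := fun x => rfl
    have hcc : ∀ y : K ⊗[k] C, bc C (σ : K →ₐ[k] K) (bc C (σ.symm : K →ₐ[k] K) y) = y := by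
      intro y
      rw [bc_bc]
      have : (σ : K →ₐ[k] K).comp (σ.symm : K →ₐ[k] K) = AlgHom.id k K := by
        ext x
        exact σ.apply_symm_apply x
      rw [this]
      induction y with
      | zero => simp
      | add x y hx hy => rw [map_add, hx, hy]
      | tmul x y => rfl
    have hψσ : ∀ y : K ⊗[k] C, bc A (σ.symm : K →ₐ[k] K) (bcHom K ψ y) =
        bcHom K ψ (bc C (σ.symm : K →ₐ[k] K) y) := by
      intro y
      induction y with
      | zero => simp
      | add x y hx hy => simp only [map_add, hx, hy]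
      | tmul x y => rfl
    have h1 := huniq f (fun c => by rw [hf, hψσ, hrK', hcc]) (fun g hg => by
      rw [hf, map_groupLike_eq_one hCK rK _ (isGroupLikeElem_bc _ hg), map_one])
    intro x
    rw [← hf, h1]
    rfl
  have hfix1 : ∀ a : A, ∃ c : C, (1 : K) ⊗ₜ[k] c = rK ((1 : K) ⊗ₜ[k] a) := by
    intro a
    refine exists_of_fixed _ fun σ => ?_
    have h1 := hfix σ ((1 : K) ⊗ₜ[k] a)
    rw [bc_tmul, map_one] at h1
    exact h1
  choose r₀ hr₀ using hfix1
  have hinj : Function.Injective (fun c : C => (1 : K) ⊗ₜ[k] c) := one_tmul_injective K C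
  let r₁ : A →ₐ[k] C :=
    { toFun := r₀
      map_one' := hinj (by
        change (1 : K) ⊗ₜ[k] r₀ 1 = (1 : K) ⊗ₜ[k] (1 : C)
        rw [hr₀]; exact map_one rK)
      map_mul' := fun a b => hinj (by
        change (1 : K) ⊗ₜ[k] r₀ (a * b) = (1 : K) ⊗ₜ[k] (r₀ a * r₀ b)
        have e1 : (1 : K) ⊗ₜ[k] (a * b) = ((1 : K) ⊗ₜ[k] a) * ((1 : K) ⊗ₜ[k] b) := by
          rw [Algebra.TensorProduct.tmul_mul_tmul, mul_one]
        have e2 : (1 : K) ⊗ₜ[k] (r₀ a * r₀ b) = ((1 : K) ⊗ₜ[k] r₀ a) * ((1 : K) ⊗ₜ[k] r₀ b) := by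
          rw [Algebra.TensorProduct.tmul_mul_tmul, mul_one]
        rw [hr₀, e1, map_mul, e2, hr₀, hr₀])
      map_zero' := hinj (by
        change (1 : K) ⊗ₜ[k] r₀ 0 = (1 : K) ⊗ₜ[k] (0 : C)
        rw [hr₀, TensorProduct.tmul_zero, map_zero, TensorProduct.tmul_zero])
      map_add' := fun a b => hinj (by
        change (1 : K) ⊗ₜ[k] r₀ (a + b) = (1 : K) ⊗ₜ[k] (r₀ a + r₀ b)
        rw [hr₀, TensorProduct.tmul_add, map_add, TensorProduct.tmul_add, hr₀, hr₀])
      commutes' := fun c => hinj (by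
        change (1 : K) ⊗ₜ[k] r₀ (algebraMap k A c) = (1 : K) ⊗ₜ[k] (algebraMap k C c)
        rw [hr₀, Algebra.algebraMap_eq_smul_one, Algebra.algebraMap_eq_smul_one,
          TensorProduct.tmul_smul, TensorProduct.tmul_smul, ← algebraMap_smul K c,
          ← algebraMap_smul K c, map_smul]
        congr 1
        exact map_one rK) }
  have hr₁ : ∀ a, (1 : K) ⊗ₜ[k] r₁ a = rK ((1 : K) ⊗ₜ[k] a) := hr₀
  have hcomul : ∀ w : A ⊗[k] A,
      TensorProduct.AlgebraTensorModule.distribBaseChange k K C C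
        ((1 : K) ⊗ₜ[k] (Algebra.TensorProduct.map r₁ r₁ w)) =
      TensorProduct.map (rK : (K ⊗[k] A) →ₗ[K] (K ⊗[k] C)) (rK : (K ⊗[k] A) →ₗ[K] (K ⊗[k] C))
        (TensorProduct.AlgebraTensorModule.distribBaseChange k K A A ((1 : K) ⊗ₜ[k] w)) := by
    intro w
    induction w with
    | zero => simp
    | add x y hx hy => simp only [map_add, TensorProduct.tmul_add, hx, hy]
    | tmul p q =>
      rw [Algebra.TensorProduct.map_tmul,
        TensorProduct.AlgebraTensorModule.distribBaseChange_tmul,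
        TensorProduct.AlgebraTensorModule.distribBaseChange_tmul, TensorProduct.map_tmul, hr₁, hr₁]
      rfl
  let r : A →ₐc[k] C := BialgHom.ofAlgHom r₁
    (by
      refine AlgHom.ext fun a => ?_
      change CoalgebraStruct.counit (R := k) (r₁ a) = CoalgebraStruct.counit (R := k) a
      apply (algebraMap k K).injective
      have h1 := CoalgHomClass.counit_comp_apply rK ((1 : K) ⊗ₜ[k] a)
      rw [← hr₁, TensorProduct.counit_tmul, TensorProduct.counit_tmul, CommSemiring.counit_apply] at h1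
      rw [Algebra.algebraMap_eq_smul_one, Algebra.algebraMap_eq_smul_one]
      exact h1)
    (by
      refine AlgHom.ext fun a => ?_
      change Algebra.TensorProduct.map r₁ r₁ (CoalgebraStruct.comul (R := k) a) =
        CoalgebraStruct.comul (R := k) (r₁ a)
      apply one_tmul_injective (R := k) K (C ⊗[k] C)
      apply (TensorProduct.AlgebraTensorModule.distribBaseChange k K C C).injective
      change TensorProduct.AlgebraTensorModule.distribBaseChange k K C C
        ((1 : K) ⊗ₜ[k] (Algebra.TensorProduct.map r₁ r₁ (CoalgebraStruct.comul (R := k) a))) =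
        TensorProduct.AlgebraTensorModule.distribBaseChange k K C C
        ((1 : K) ⊗ₜ[k] (CoalgebraStruct.comul (R := k) (r₁ a)))
      rw [hcomul]
      have h1 := CoalgHomClass.map_comp_comul_apply rK ((1 : K) ⊗ₜ[k] a)
      rw [← hr₁] at h1
      have h2 := comul_one_tmul (R := k) (S := K) (r₁ a)
      have h3 := comul_one_tmul (R := k) (S := K) a
      rw [← h2, ← h3]
      exact h1)
  have hr : ∀ a, (1 : K) ⊗ₜ[k] r a = rK ((1 : K) ⊗ₜ[k] a) := hr₀
  refine ⟨r, ?_, ?_⟩
  · refine DFunLike.ext _ _ fun c => ?_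
    apply hinj
    change (1 : K) ⊗ₜ[k] r (ψ c) = (1 : K) ⊗ₜ[k] c
    rw [hr]
    exact hrK' ((1 : K) ⊗ₜ[k] c)
  · intro r' hr'
    refine DFunLike.ext _ _ fun a => ?_
    apply hinj
    change (1 : K) ⊗ₜ[k] r' a = (1 : K) ⊗ₜ[k] r a
    rw [hr]
    have h1 := huniq (bcHom K r' : (K ⊗[k] A) →ₐ[K] (K ⊗[k] C)) (fun c => by
      change bcHom K r' (bcHom K ψ c) = c
      induction c with
      | zero => simp
      | add x y hx hy => rw [map_add, map_add, hx, hy]
      | tmul x y =>
        rw [bcHom_tmul, bcHom_tmul]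
        congr 1
        exact DFunLike.congr_fun hr' y) (fun g hg => map_groupLike_eq_one hCK (bcHom K r') g hg)
    exact DFunLike.congr_fun h1 ((1 : K) ⊗ₜ[k] a)

end Groth.Agent.Sga3.H809.Main
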