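import Groth.Agent.Sga3A.ComodUnip
import Mathlib.RingTheory.HopfAlgebra.Convolution
import Mathlib.RingTheory.Bialgebra.Hom
import Mathlib.RingTheory.Coalgebra.Basic
import Mathlib.LinearAlgebra.Matrix.Charpoly.Minpoly
import Mathlib.LinearAlgebra.Matrix.Charpoly.Coeff
import Mathlib.LinearAlgebra.Matrix.Charpoly.Eigs
import Mathlib.LinearAlgebra.Eigenspace.Basic
import Mathlib.LinearAlgebra.Eigenspace.Minpoly
import Mathlib.LinearAlgebra.Eigenspace.Triangularizable
import Mathlib.FieldTheory.IsAlgClosed.Basic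
import Mathlib.LinearAlgebra.Matrix.ToLin

/-!
# Simple comodules of an extension of a connected reduced unipotent group by a commutative group

Matrix form.  `a` is the matrix of coefficients of a simple comodule of `A`; `ψ : C → A` is the
inclusion of the coordinate ring of the unipotent quotient and `π : A → D` the restriction to
the commutative kernel.  Result: the matrix has size one.
-/

set_option autoImplicit false

universe u v

open TensorProduct HopfRep

namespace Groth.Agent.Sga3.H809.SimpleOne

open Groth.Agent.Sga3A.ComodBasic Groth.Agent.Sga3A.ComodUnip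

section Mult

variable {K : Type u} [Field K] {A : Type v} [CommRing A] [HopfAlgebra K A]
variable {ι : Type*} [Fintype ι] [DecidableEq ι]

/-- A multiplicative matrix: the matrix of coefficients of a finite-dimensional comodule. -/
structure IsMultMat (K : Type u) [Field K] {A : Type v} [CommRing A] [HopfAlgebra K A]
    {ι : Type*} [Fintype ι] [DecidableEq ι] (a : Matrix ι ι A) : Prop where
  comul : ∀ i j, CoalgebraStruct.comul (R := K) (a i j) = ∑ l, a i l ⊗ₜ[K] a l j
  counit : ∀ i j, CoalgebraStruct.counit (R := K) (a i j) = if i = j then 1 else 0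

variable (K) in
/-- the inverse of a multiplicative matrix, through the antipode -/
noncomputable def inv (a : Matrix ι ι A) : Matrix ι ι A :=
  a.map (HopfAlgebra.antipodeAlgHom K A)

/-- the conjugate `a φ a⁻¹` of a scalar matrix -/
noncomputable def cj (a : Matrix ι ι A) (φ : Matrix ι ι K) : Matrix ι ι A :=
  a * φ.map (algebraMap K A) * inv K a

lemma mul_inv {a : Matrix ι ι A} (ha : IsMultMat K a) : a * inv K a = 1 := by
  ext i j
  have h1 := HopfAlgebra.mul_antipode_lTensor_comul_apply (R := K) (a i j)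
  rw [ha.comul, map_sum, map_sum] at h1
  simp only [LinearMap.lTensor_tmul, LinearMap.mul'_apply] at h1
  rw [Matrix.mul_apply]
  simp only [inv, Matrix.map_apply]
  change ∑ l, a i l * HopfAlgebraStruct.antipode K (a l j) = _
  rw [h1, ha.counit, Matrix.one_apply]
  split_ifs <;> simp

lemma inv_mul {a : Matrix ι ι A} (ha : IsMultMat K a) : inv K a * a = 1 :=
  mul_eq_one_comm.mp (mul_inv ha)

omit [DecidableEq ι] in
lemma cj_apply (a : Matrix ι ι A) (φ : Matrix ι ι K) (i j : ι) :
    cj a φ i j = ∑ m, ∑ l, φ l m • (a i l * inv K a m j) := by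
  rw [cj, Matrix.mul_apply]
  refine Finset.sum_congr rfl fun m _ => ?_
  rw [Matrix.mul_apply, Finset.sum_mul]
  refine Finset.sum_congr rfl fun l _ => ?_
  rw [Matrix.map_apply, Algebra.smul_def]
  ring

lemma cj_mul_self {a : Matrix ι ι A} (ha : IsMultMat K a) (φ : Matrix ι ι K) :
    cj a φ * a = a * φ.map (algebraMap K A) := by
  rw [cj, Matrix.mul_assoc, inv_mul ha, Matrix.mul_one]

/-- the comultiplication of the antipode matrix -/
lemma comul_inv {a : Matrix ι ι A} (ha : IsMultMat K a) (i j : ι) :
    CoalgebraStruct.comul (R := K) (inv K a i j) = ∑ l, inv K a l j ⊗ₜ[K] inv K a i l := by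
  -- both sides are inverse to `comul a`
  let Δ : A →ₐ[K] A ⊗[K] A := Bialgebra.comulAlgHom K A
  let L : A →ₐ[K] A ⊗[K] A := Algebra.TensorProduct.includeLeft
  let R : A →ₐ[K] A ⊗[K] A := Algebra.TensorProduct.includeRight
  have h1 : a.map Δ = a.map L * a.map R := by
    ext i j
    rw [Matrix.mul_apply, Matrix.map_apply]
    change CoalgebraStruct.comul (R := K) (a i j) = _
    rw [ha.comul]
    refine Finset.sum_congr rfl fun l _ => ?_
    simp [L, R]
  have h2 : a.map Δ * (inv K a).map Δ = 1 := by
    rw [← Matrix.map_mul, mul_inv ha, Matrix.map_one _ (map_zero _) (map_one _)]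
  have h3 : a.map Δ * ((inv K a).map R * (inv K a).map L) = 1 := by
    rw [h1, Matrix.mul_assoc, ← Matrix.mul_assoc (a.map R), ← Matrix.map_mul, mul_inv ha,
      Matrix.map_one _ (map_zero _) (map_one _), Matrix.one_mul, ← Matrix.map_mul, mul_inv ha,
      Matrix.map_one _ (map_zero _) (map_one _)]
  have h4 : (inv K a).map Δ = (inv K a).map R * (inv K a).map L := by
    have h5 : (inv K a).map Δ * a.map Δ = 1 := mul_eq_one_comm.mp h2
    calc (inv K a).map Δ = (inv K a).map Δ * (a.map Δ * ((inv K a).map R * (inv K a).map L)) := by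
          rw [h3, Matrix.mul_one]
      _ = _ := by rw [← Matrix.mul_assoc, h5, Matrix.one_mul]
  have h6 := congrFun (congrFun h4 i) j
  rw [Matrix.mul_apply, Matrix.map_apply] at h6
  change CoalgebraStruct.comul (R := K) (inv K a i j) = _ at h6
  rw [h6]
  refine Finset.sum_congr rfl fun l _ => ?_
  simp [L, R]

/-- the comultiplication of the conjugate -/
lemma comul_cj {a : Matrix ι ι A} (ha : IsMultMat K a) (φ : Matrix ι ι K) (i j : ι) :
    CoalgebraStruct.comul (R := K) (cj a φ i j) =
      ∑ m, ∑ l, (a i l * inv K a m j) ⊗ₜ[K] cj a φ l m := by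
  have h1 : ∀ l m, CoalgebraStruct.comul (R := K) (a i l * inv K a m j) =
      ∑ p, ∑ q, (a i p * inv K a q j) ⊗ₜ[K] (a p l * inv K a m q) := by
    intro l m
    rw [Bialgebra.comul_mul, ha.comul, comul_inv ha, Finset.sum_mul]
    refine Finset.sum_congr rfl fun p _ => ?_
    rw [Finset.mul_sum]
    refine Finset.sum_congr rfl fun q _ => ?_
    rw [Algebra.TensorProduct.tmul_mul_tmul]
  rw [cj_apply]
  simp only [map_sum, map_smul, h1, cj_apply, TensorProduct.tmul_sum, TensorProduct.tmul_smul,
    Finset.smul_sum]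
  -- reorder the sums: LHS indices (m, l, p, q), RHS indices (m', l', m, l)
  calc ∑ m, ∑ l, ∑ p, ∑ q, φ l m • (a i p * inv K a q j) ⊗ₜ[K] (a p l * inv K a m q)
      = ∑ q, ∑ p, ∑ m, ∑ l, φ l m • (a i p * inv K a q j) ⊗ₜ[K] (a p l * inv K a m q) := by
        rw [Finset.sum_congr rfl (fun m _ => Finset.sum_comm)]
        rw [Finset.sum_comm]
        rw [Finset.sum_congr rfl (fun p _ => Finset.sum_congr rfl (fun m _ => Finset.sum_comm))]
        rw [Finset.sum_congr rfl (fun p _ => Finset.sum_comm)]
        rw [Finset.sum_comm]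
    _ = _ := rfl

lemma counit_inv {a : Matrix ι ι A} (ha : IsMultMat K a) (i j : ι) :
    CoalgebraStruct.counit (R := K) (inv K a i j) = if i = j then 1 else 0 := by
  rw [← ha.counit i j]
  exact HopfAlgebra.counit_antipode _

lemma counit_cj {a : Matrix ι ι A} (ha : IsMultMat K a) (φ : Matrix ι ι K) (i j : ι) :
    CoalgebraStruct.counit (R := K) (cj a φ i j) = φ i j := by
  rw [cj_apply]
  simp only [map_sum, map_smul, Bialgebra.counit_mul, ha.counit, counit_inv ha]
  rw [Finset.sum_eq_single j, Finset.sum_eq_single i]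
  · simp
  · intro l _ hl
    simp [Ne.symm hl]
  · simp
  · intro m _ hm
    simp [hm]
  · simp

omit [DecidableEq ι] in
lemma cj_sub (a : Matrix ι ι A) (φ φ' : Matrix ι ι K) : cj a (φ - φ') = cj a φ - cj a φ' := by
  rw [cj, cj, cj, Matrix.map_sub _ (map_sub _), Matrix.mul_sub, Matrix.sub_mul]

omit [DecidableEq ι] in
lemma cj_smul (a : Matrix ι ι A) (r : K) (φ : Matrix ι ι K) : cj a (r • φ) = r • cj a φ := by
  ext i j
  rw [Matrix.smul_apply, cj_apply, cj_apply, Finset.smul_sum]
  refine Finset.sum_congr rfl fun m _ => ?_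
  rw [Finset.smul_sum]
  refine Finset.sum_congr rfl fun l _ => ?_
  rw [Matrix.smul_apply, smul_eq_mul, mul_smul]

end Mult

section Pi

variable {K : Type u} [Field K] {A C D : Type v} [CommRing A] [HopfAlgebra K A]
  [CommRing C] [HopfAlgebra K C] [CommRing D] [HopfAlgebra K D]
variable {ι : Type*} [Fintype ι] [DecidableEq ι]
variable (ψ : C →ₐc[K] A) (π : A →ₐc[K] D)

/-- the scalar matrix commutes with the restriction of `a` to the kernel -/
def IsInv (a : Matrix ι ι A) (φ : Matrix ι ι K) : Prop :=
  ∀ i j, π (cj a φ i j) = algebraMap K D (φ i j)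

lemma lTensor_comul_cj {a : Matrix ι ι A} (ha : IsMultMat K a) (φ : Matrix ι ι K)
    (hφ : IsInv π a φ) (i j : ι) :
    LinearMap.lTensor A (π : A →ₗ[K] D) (CoalgebraStruct.comul (R := K) (cj a φ i j)) =
      cj a φ i j ⊗ₜ[K] (1 : D) := by
  rw [comul_cj ha, map_sum, cj_apply a φ i j, TensorProduct.sum_tmul]
  refine Finset.sum_congr rfl fun m _ => ?_
  rw [map_sum, TensorProduct.sum_tmul]
  refine Finset.sum_congr rfl fun l _ => ?_
  rw [LinearMap.lTensor_tmul, TensorProduct.smul_tmul]
  congr 1
  refine (hφ l m).trans ?_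
  rw [Algebra.algebraMap_eq_smul_one]

/-- contraction of the conjugate -/
lemma cj_contract {a : Matrix ι ι A} (ha : IsMultMat K a) (φ : Matrix ι ι K)
    (c : Matrix ι ι C) (hc : ∀ i j, ψ (c i j) = cj a φ i j) (f : A →ₗ[K] K) (i j : ι) :
    cj a (Matrix.of fun l m => f (ψ (c l m))) i j =
      ψ (T C (f ∘ₗ (ψ : C →ₗ[K] A)) (c i j)) := by
  have h1 : ∀ z : C ⊗[K] C, TensorProduct.rid K A (LinearMap.lTensor A f
      (TensorProduct.map (ψ : C →ₗ[K] A) (ψ : C →ₗ[K] A) z)) =
      ψ (TensorProduct.rid K C (LinearMap.lTensor C (f ∘ₗ (ψ : C →ₗ[K] A)) z)) := by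
    intro z
    induction z with
    | zero => simp
    | add x y hx hy => simp only [map_add, hx, hy]
    | tmul x y => simp
  rw [T_apply]
  change _ = ψ (TensorProduct.rid K C (LinearMap.lTensor C (f ∘ₗ (ψ : C →ₗ[K] A))
    (CoalgebraStruct.comul (R := K) (c i j))))
  rw [← h1]
  have h2 : TensorProduct.map (ψ : C →ₗ[K] A) (ψ : C →ₗ[K] A)
      (CoalgebraStruct.comul (R := K) (c i j)) = CoalgebraStruct.comul (R := K) (ψ (c i j)) :=
    CoalgHomClass.map_comp_comul_apply ψ (c i j)
  rw [h2, hc, comul_cj ha, map_sum, map_sum, cj_apply]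
  refine Finset.sum_congr rfl fun m _ => ?_
  rw [map_sum, map_sum]
  refine Finset.sum_congr rfl fun l _ => ?_
  rw [LinearMap.lTensor_tmul, TensorProduct.rid_tmul, Matrix.of_apply, hc]

/-- an integral element of a domain over an algebraically closed field is a scalar -/
lemma exists_scalar_of_aeval [IsAlgClosed K] [IsDomain C] (x : C) (p : Polynomial K)
    (hp : p.Monic) (hx : Polynomial.aeval x p = 0) : ∃ r : K, x = algebraMap K C r := by
  have hint : IsIntegral K x := ⟨p, hp, by rwa [← Polynomial.aeval_def]⟩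
  have h1 := minpoly.irreducible hint
  have h2 := IsAlgClosed.degree_eq_one_of_irreducible K h1
  obtain ⟨r, hr⟩ := minpoly.mem_range_of_degree_eq_one K x h2
  exact ⟨r, hr.symm⟩

/-- a conjugate of a scalar matrix which differs from it by a scalar: the scalar is zero -/
lemma eq_zero_of_cj_eq_add [IsAlgClosed K] [IsDomain C] [Nonempty ι]
    (hψ : Function.Injective ψ) {a : Matrix ι ι A} (ha : IsMultMat K a) (φ : Matrix ι ι K) (d : C)
    (hd : cj a φ = φ.map (algebraMap K A) + Matrix.scalar ι (ψ d)) : d = 0 := by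
  classical
  -- a root of the characteristic polynomial
  have hdeg : φ.charpoly.degree ≠ 0 := by
    rw [Matrix.charpoly_degree_eq_dim]
    exact_mod_cast Fintype.card_ne_zero
  obtain ⟨r, hr⟩ := IsAlgClosed.exists_root φ.charpoly hdeg
  have h1 : (Matrix.scalar ι (algebraMap K A r) - cj a φ).det = 0 := by
    have e1 : Matrix.scalar ι (algebraMap K A r) - cj a φ =
        a * (Matrix.scalar ι (algebraMap K A r) - φ.map (algebraMap K A)) * inv K a := by
      rw [Matrix.mul_sub, Matrix.sub_mul, ← cj, ← (Matrix.scalar_commute _ (mul_comm _) a).eq,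
        Matrix.mul_assoc, mul_inv ha, Matrix.mul_one]
    have e2 : Matrix.scalar ι (algebraMap K A r) - φ.map (algebraMap K A) =
        (Matrix.scalar ι r - φ).map (algebraMap K A) := by
      rw [Matrix.map_sub _ (map_sub _)]
      congr 1
      ext i j
      simp [Matrix.diagonal_apply, apply_ite (algebraMap K A)]
    rw [e1, Matrix.det_mul, Matrix.det_mul, e2]
    have e3 : ((Matrix.scalar ι r - φ).map (algebraMap K A)).det =
        algebraMap K A (Matrix.scalar ι r - φ).det := by
      rw [RingHom.map_det]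
      rfl
    have e4 : (Matrix.scalar ι r - φ).det = 0 := by
      rw [← Matrix.eval_charpoly]
      exact hr
    rw [e3, e4, map_zero, mul_zero, zero_mul]
  have h2 : Polynomial.aeval (algebraMap K A r - ψ d) φ.charpoly = 0 := by
    rw [hd] at h1
    have e1 : Matrix.scalar ι (algebraMap K A r) - (φ.map (algebraMap K A) + Matrix.scalar ι (ψ d)) =
        Matrix.scalar ι (algebraMap K A r - ψ d) - φ.map (algebraMap K A) := by
      rw [map_sub]
      abel
    rw [e1, ← Matrix.eval_charpoly, Matrix.charpoly_map] at h1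
    rw [Polynomial.aeval_def, ← Polynomial.eval_map]
    exact h1
  have h3 : Polynomial.aeval (algebraMap K C r - d) φ.charpoly = 0 := by
    apply hψ
    rw [map_zero, ← h2]
    change (ψ : C →ₐ[K] A) (Polynomial.aeval (algebraMap K C r - d) φ.charpoly) = _
    rw [← Polynomial.aeval_algHom_apply]
    congr 2
    rw [map_sub, AlgHom.commutes]
    rfl
  obtain ⟨s, hs⟩ := exists_scalar_of_aeval (algebraMap K C r - d) _ φ.charpoly_monic h3
  have h4 : d = algebraMap K C (r - s) := by
    rw [map_sub, ← hs]
    ring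
  -- the counit
  obtain ⟨i⟩ := ‹Nonempty ι›
  have h5 := counit_cj ha φ i i
  rw [hd, Matrix.add_apply, Matrix.map_apply, Matrix.scalar_apply, Matrix.diagonal_apply_eq, map_add,
    Bialgebra.counit_algebraMap, h4] at h5
  have h6 : CoalgebraStruct.counit (R := K) (ψ (algebraMap K C (r - s))) = r - s := by
    rw [CoalgHomClass.counit_comp_apply, Bialgebra.counit_algebraMap]
  rw [h6] at h5
  have h7 : r - s = 0 := by
    simpa using h5
  rw [h4, h7, map_zero]

/-- the main induction -/
lemma exists_scalar_of_mem_soc [IsAlgClosed K] [IsDomain C] [Nonempty ι]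
    (hψ : Function.Injective ψ) {a : Matrix ι ι A} (ha : IsMultMat K a)
    (hS : ∀ φ : Matrix ι ι K, φ.map (algebraMap K A) * a = a * φ.map (algebraMap K A) →
      ∃ r : K, φ = Matrix.scalar ι r) (N : ℕ) :
    ∀ (φ : Matrix ι ι K) (c : Matrix ι ι C), (∀ i j, ψ (c i j) = cj a φ i j) →
      (∀ i j, c i j ∈ soc K C C N) → ∃ r : K, φ = Matrix.scalar ι r := by
  classical
  induction N with
  | zero =>
    intro φ c hc hN
    refine ⟨0, ?_⟩
    ext i j
    have h1 : c i j = 0 := (mem_soc_zero _).mp (hN i j)
    have h2 := counit_cj ha φ i j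
    rw [← hc, h1, map_zero, map_zero] at h2
    rw [← h2]
    simp
  | succ N ih =>
    intro φ c hc hN
    obtain ⟨ρ, hρ⟩ : ∃ ρ : A →ₗ[K] C, ρ ∘ₗ (ψ : C →ₗ[K] A) = LinearMap.id :=
      LinearMap.exists_leftInverse_of_injective _ (LinearMap.ker_eq_bot.mpr hψ)
    have key : ∀ g : C →ₗ[K] K, ∃ r : K, ∀ i j, g (c i j) - g 1 * φ i j = if i = j then r else 0 := by
      intro g
      have hf : (g ∘ₗ ρ) ∘ₗ (ψ : C →ₗ[K] A) = g := by
        rw [LinearMap.comp_assoc, hρ, LinearMap.comp_id]
      have hf' : ∀ x : C, (g ∘ₗ ρ) (ψ x) = g x := fun x => LinearMap.congr_fun hf x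
      obtain ⟨r, hr⟩ := ih ((Matrix.of fun l m => (g ∘ₗ ρ) (ψ (c l m))) - g 1 • φ)
        (Matrix.of fun i j => T C g (c i j) - g 1 • c i j) (by
          intro i j
          rw [cj_sub, cj_smul, Matrix.sub_apply, Matrix.smul_apply, cj_contract ψ ha φ c hc, hf,
            Matrix.of_apply, map_sub, map_smul, hc]) (by
          intro i j
          exact (mem_soc_succ N _).mp (hN i j) g)
      refine ⟨r, fun i j => ?_⟩
      have h1 := congrFun (congrFun hr i) j
      rw [Matrix.sub_apply, Matrix.of_apply, hf', Matrix.smul_apply, smul_eq_mul,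
        Matrix.scalar_apply, Matrix.diagonal_apply] at h1
      exact h1
    obtain ⟨i₀⟩ := ‹Nonempty ι›
    have hoff : ∀ i j, i ≠ j → c i j = algebraMap K C (φ i j) := by
      intro i j hij
      rw [← sub_eq_zero, ← Module.forall_dual_apply_eq_zero_iff K]
      intro g
      obtain ⟨r, hr⟩ := key g
      have := hr i j
      rw [if_neg hij] at this
      rw [map_sub, Algebra.algebraMap_eq_smul_one, map_smul, smul_eq_mul, mul_comm, this]
    have hdiag : ∀ i, c i i - algebraMap K C (φ i i) = c i₀ i₀ - algebraMap K C (φ i₀ i₀) := by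
      intro i
      rw [← sub_eq_zero, ← Module.forall_dual_apply_eq_zero_iff K]
      intro g
      obtain ⟨r, hr⟩ := key g
      have h1 := hr i i
      have h2 := hr i₀ i₀
      rw [if_pos rfl] at h1 h2
      rw [map_sub, map_sub, map_sub, Algebra.algebraMap_eq_smul_one, Algebra.algebraMap_eq_smul_one,
        map_smul, map_smul, smul_eq_mul, smul_eq_mul, mul_comm, h1, mul_comm, h2, sub_self]
    have hd : cj a φ = φ.map (algebraMap K A) +
        Matrix.scalar ι (ψ (c i₀ i₀ - algebraMap K C (φ i₀ i₀))) := by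
      ext i j
      rw [Matrix.add_apply, Matrix.map_apply, Matrix.scalar_apply, Matrix.diagonal_apply, ← hc]
      split_ifs with hij
      · subst hij
        rw [← hdiag i, map_sub]
        have : ψ (algebraMap K C (φ i i)) = algebraMap K A (φ i i) :=
          AlgHomClass.commutes ψ _
        rw [this]
        ring
      · rw [hoff i j hij, add_zero]
        exact AlgHomClass.commutes ψ _
    have : Nonempty ι := ⟨i₀⟩
    have h0 := eq_zero_of_cj_eq_add ψ hψ ha φ _ hd
    rw [h0, map_zero, map_zero, add_zero] at hd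
    apply hS
    have h1 := cj_mul_self ha φ
    rwa [hd] at h1

/-- Every simple comodule has dimension one (matrix form). -/
theorem subsingleton_of_simple [IsAlgClosed K] [IsDomain C] [Coalgebra.IsCocomm K D]
    (hC : ∀ c : C, ∃ n, c ∈ soc K C C n) (hψ : Function.Injective ψ)
    (hcoinv : ∀ x : A, LinearMap.lTensor A (π : A →ₗ[K] D) (CoalgebraStruct.comul (R := K) x) =
      x ⊗ₜ[K] (1 : D) → ∃ c, ψ c = x)
    {a : Matrix ι ι A} (ha : IsMultMat K a)
    (hS : ∀ φ : Matrix ι ι K, φ.map (algebraMap K A) * a = a * φ.map (algebraMap K A) →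
      ∃ r : K, φ = Matrix.scalar ι r) (i j : ι) : i = j := by
  classical
  have : Nonempty ι := ⟨i⟩
  have key : ∀ φ : Matrix ι ι K, IsInv π a φ → ∃ r : K, φ = Matrix.scalar ι r := by
    intro φ hφ
    have h1 : ∀ i j, ∃ c, ψ c = cj a φ i j := fun i j =>
      hcoinv _ (lTensor_comul_cj π ha φ hφ i j)
    choose c hc using h1
    choose N hN using fun i j => hC (c i j)
    let M := Finset.univ.sup fun i => Finset.univ.sup fun j => N i j
    refine exists_scalar_of_mem_soc ψ hψ ha hS M φ c hc fun i j => ?_
    refine soc_mono ?_ (hN i j)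
    exact (Finset.le_sup (f := fun j => N i j) (Finset.mem_univ j)).trans
      (Finset.le_sup (f := fun i => Finset.univ.sup fun j => N i j) (Finset.mem_univ i))
  -- matrices of the operators of the kernel
  have hcomm : ∀ φ : Matrix ι ι K, φ.map (algebraMap K D) * a.map π = a.map π * φ.map (algebraMap K D) →
      IsInv π a φ := by
    intro φ h i j
    have h1 : (cj a φ).map π = a.map π * φ.map (algebraMap K D) * (inv K a).map π := by
      rw [cj, Matrix.map_mul, Matrix.map_mul]
      congr 2
      ext i j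
      exact AlgHomClass.commutes π _
    have h2 : a.map π * (inv K a).map π = 1 := by
      rw [← Matrix.map_mul, mul_inv ha, Matrix.map_one _ (map_zero _) (map_one _)]
    rw [← h, Matrix.mul_assoc, h2, Matrix.mul_one] at h1
    exact congrFun (congrFun h1 i) j
  have hT : ∀ g : D →ₗ[K] K, ∃ r : K, ∀ i j, g (π (a i j)) = if i = j then r else 0 := by
    intro g
    obtain ⟨r, hr⟩ := key (Matrix.of fun i j => g (π (a i j))) (hcomm _ (by
      ext i j
      rw [Matrix.mul_apply, Matrix.mul_apply]
      simp only [Matrix.map_apply, Matrix.of_apply]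
      have h1 : CoalgebraStruct.comul (R := K) (π (a i j)) = ∑ l, π (a i l) ⊗ₜ[K] π (a l j) := by
        rw [← CoalgHomClass.map_comp_comul_apply π, ha.comul, map_sum]
        rfl
      have h2 := congrArg (fun z => TensorProduct.rid K D (LinearMap.lTensor D g z)) h1
      have h3 := congrArg (fun z => TensorProduct.rid K D (LinearMap.lTensor D g
        (TensorProduct.comm K D D z))) h1
      simp only [map_sum, LinearMap.lTensor_tmul, TensorProduct.rid_tmul,
        TensorProduct.comm_tmul] at h2 h3
      have h4 : TensorProduct.comm K D D (CoalgebraStruct.comul (R := K) (π (a i j))) =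
          CoalgebraStruct.comul (R := K) (π (a i j)) := Coalgebra.comm_comul K _
      rw [h4, h2] at h3
      calc ∑ l, algebraMap K D (g (π (a i l))) * π (a l j) = ∑ l, g (π (a i l)) • π (a l j) :=
            Finset.sum_congr rfl fun l _ => (Algebra.smul_def _ _).symm
        _ = ∑ l, g (π (a l j)) • π (a i l) := h3.symm
        _ = _ := Finset.sum_congr rfl fun l _ => by rw [Algebra.smul_def, mul_comm]))
    refine ⟨r, fun i j => ?_⟩
    have h1 := congrFun (congrFun hr i) j
    rw [Matrix.of_apply, Matrix.scalar_apply, Matrix.diagonal_apply] at h1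
    exact h1
  have hall : ∀ φ : Matrix ι ι K, IsInv π a φ := by
    intro φ
    apply hcomm
    have h1 : a.map π = Matrix.scalar ι (π (a i i)) := by
      ext p q
      rw [Matrix.map_apply, Matrix.scalar_apply, Matrix.diagonal_apply]
      rw [← sub_eq_zero, ← Module.forall_dual_apply_eq_zero_iff K]
      intro g
      obtain ⟨r, hr⟩ := hT g
      split_ifs with h
      · subst h
        rw [map_sub, hr, hr, if_pos rfl, if_pos rfl, sub_self]
      · rw [sub_zero, hr, if_neg h]
    rw [h1]
    exact ((Matrix.scalar_commute _ (mul_comm _) _).eq).symm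
  by_contra hij
  obtain ⟨r, hr⟩ := key (Matrix.single i j 1) (hall _)
  have h1 := congrFun (congrFun hr i) j
  rw [Matrix.scalar_apply, Matrix.diagonal_apply, if_neg hij, Matrix.single_apply_same] at h1
  exact one_ne_zero h1

end Pi

end Groth.Agent.Sga3.H809.SimpleOne
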