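import Groth.Agent.Sga3.H809.CoreAC
import Groth.Agent.Sga3.H785.HopfCorr
import Groth.Agent.Sga3A.MTQuasi
import Groth.Agent.Books.HopfConn
import Groth.Agent.Books.AffBridge2
import Groth.Agent.Ega43.SmoothReduced
import Mathlib.FieldTheory.Galois.Infinite
import Mathlib.FieldTheory.IsAlgClosed.AlgebraicClosure
import Mathlib.RingTheory.Bialgebra.Quotient

/-!
# Transfer of the hypotheses to the algebraic closure, and Galois descent of elements
-/

set_option autoImplicit false

universe u v w

open TensorProduct HopfRep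

namespace Groth.Agent.Sga3.H809.Transfer

open Groth.Agent.Sga3A.ComodUnip Groth.Agent.Sga3A.MTBasis

section Coinv

variable {k : Type u} [Field k] {A C : Type u} [CommRing A] [HopfAlgebra k A]
  [CommRing C] [HopfAlgebra k C] (ψ : C →ₐc[k] A)

lemma isHopfSubalgebra_range : SGA3.IsHopfSubalgebra k A (ψ : C →ₐ[k] A).range := by
  constructor
  · rintro _ ⟨c, rfl⟩
    have h1 : CoalgebraStruct.comul (R := k) (ψ c) =
        TensorProduct.map (ψ : C →ₗ[k] A) (ψ : C →ₗ[k] A) (CoalgebraStruct.comul (R := k) c) :=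
      (CoalgHomClass.map_comp_comul_apply ψ c).symm
    change CoalgebraStruct.comul (R := k) (ψ c) ∈ _
    rw [h1]
    generalize CoalgebraStruct.comul (R := k) c = w
    induction w with
    | zero => rw [map_zero]; exact zero_mem _
    | add x y hx hy => rw [map_add]; exact add_mem hx hy
    | tmul x y =>
      exact ⟨(⟨ψ x, x, rfl⟩ : (ψ : C →ₐ[k] A).range) ⊗ₜ (⟨ψ y, y, rfl⟩ : (ψ : C →ₐ[k] A).range),
        rfl⟩
  · rintro _ ⟨c, rfl⟩
    refine ⟨HopfAlgebraStruct.antipode k c, ?_⟩
    exact (LinearMap.congr_fun (Groth.Agent.Books.AffBridge2.antipode_comp_bialgHom ψ) c).symm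

lemma augIdealSpan_range : SGA3.augIdealSpan k A (ψ : C →ₐ[k] A).range =
    Ideal.map (ψ : C →+* A) (RingHom.ker (Bialgebra.counitAlgHom k C)) := by
  apply le_antisymm
  · rw [SGA3.augIdealSpan, Ideal.span_le]
    rintro _ ⟨⟨c, rfl⟩, h⟩
    refine Ideal.mem_map_of_mem (ψ : C →+* A) ?_
    rw [RingHom.mem_ker]
    have h1 : CoalgebraStruct.counit (R := k) (ψ c) = 0 := h
    rw [CoalgHomClass.counit_comp_apply] at h1
    exact h1
  · rw [Ideal.map_le_iff_le_comap]
    intro c hc
    rw [Ideal.mem_comap]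
    refine Ideal.subset_span ⟨⟨c, rfl⟩, ?_⟩
    change CoalgebraStruct.counit (R := k) (ψ c) = 0
    rw [CoalgHomClass.counit_comp_apply]
    exact hc

/-- The coinvariants are the image of `ψ`. -/
theorem exists_of_coinv (J : Ideal A) [J.IsHopfIdeal k]
    (hJ : J = Ideal.map (ψ : C →+* A) (RingHom.ker (Bialgebra.counitAlgHom k C))) (x : A)
    (hx : LinearMap.lTensor A ((Bialgebra.Quotient.mkBialgHom (R := k) J : A →ₐc[k] A ⧸ J) :
      A →ₗ[k] A ⧸ J) (CoalgebraStruct.comul (R := k) x) = x ⊗ₜ[k] (1 : A ⧸ J)) :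
    ∃ c, ψ c = x := by
  have hex0 : Function.Exact (J.restrictScalars k).subtype
      (Ideal.Quotient.mkₐ k J).toLinearMap := by
    intro x
    constructor
    · intro hx
      exact ⟨⟨x, Ideal.Quotient.eq_zero_iff_mem.mp hx⟩, rfl⟩
    · rintro ⟨x, rfl⟩
      exact Ideal.Quotient.eq_zero_iff_mem.mpr x.2
  have hex : Function.Exact ((J.restrictScalars k).subtype.lTensor A)
      ((Ideal.Quotient.mkₐ k J).toLinearMap.lTensor A) :=
    lTensor_exact A hex0 (Ideal.Quotient.mkₐ_surjective k J)
  have h1 : CoalgebraStruct.comul (R := k) (A := A) x - x ⊗ₜ[k] (1 : A) ∈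
      LinearMap.range (LinearMap.lTensor A (J.restrictScalars k).subtype) := by
    refine (hex _).mp ?_
    rw [map_sub, sub_eq_zero]
    refine hx.trans ?_
    rw [LinearMap.lTensor_tmul]
    congr 1
  have h2 := (Groth.Agent.Sga3.H785.HopfCorr.mem_coinv_iff J x).mpr h1
  have h3 : J = SGA3.augIdealSpan k A (ψ : C →ₐ[k] A).range := hJ.trans (augIdealSpan_range ψ).symm
  rw [h3, Groth.Agent.Sga3.H785.HopfCorr.coinv_augIdealSpan (isHopfSubalgebra_range ψ)] at h2
  exact h2

lemma mk_psi (J : Ideal A) [J.IsHopfIdeal k]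
    (hJ : J = Ideal.map (ψ : C →+* A) (RingHom.ker (Bialgebra.counitAlgHom k C))) (c : C) :
    (Bialgebra.Quotient.mkBialgHom (R := k) J : A →ₐc[k] A ⧸ J) (ψ c) =
      algebraMap k (A ⧸ J) (CoalgebraStruct.counit (R := k) c) := by
  have h1 : ψ (c - algebraMap k C (CoalgebraStruct.counit (R := k) c)) ∈ J := by
    rw [hJ]
    refine Ideal.mem_map_of_mem (ψ : C →+* A) ?_
    rw [RingHom.mem_ker, map_sub, AlgHom.commutes]
    exact sub_self _
  rw [map_sub, ← Ideal.Quotient.eq] at h1
  refine Eq.trans h1 ?_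
  rw [AlgHomClass.commutes]
  rfl

end Coinv

section BC

variable {k : Type u} [Field k] (K : Type u) [Field K] [Algebra k K]
variable {A C D : Type u} [CommRing A] [HopfAlgebra k A]
  [CommRing C] [HopfAlgebra k C] [CommRing D] [HopfAlgebra k D]

/-- base change of a bialgebra map -/
noncomputable def bcHom (f : A →ₐc[k] D) : (K ⊗[k] A) →ₐc[K] (K ⊗[k] D) :=
  Bialgebra.TensorProduct.map (BialgHom.id K K) f

@[simp] lemma bcHom_tmul (f : A →ₐc[k] D) (x : K) (a : A) : bcHom K f (x ⊗ₜ a) = x ⊗ₜ f a := rfl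

lemma bcHom_injective (f : A →ₐc[k] D) (hf : Function.Injective f) :
    Function.Injective (bcHom K f) := by
  have : (bcHom K f : K ⊗[k] A → K ⊗[k] D) = LinearMap.lTensor K (f : A →ₗ[k] D) := by
    funext x
    induction x with
    | zero => simp
    | add x y hx hy => rw [map_add, map_add, hx, hy]
    | tmul x y => rfl
  rw [this]
  exact Module.Flat.lTensor_preserves_injective_linearMap _ hf

lemma bcHom_surjective (f : A →ₐc[k] D) (hf : Function.Surjective f) :
    Function.Surjective (bcHom K f) := by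
  have : (bcHom K f : K ⊗[k] A → K ⊗[k] D) = LinearMap.lTensor K (f : A →ₗ[k] D) := by
    funext x
    induction x with
    | zero => simp
    | add x y hx hy => rw [map_add, map_add, hx, hy]
    | tmul x y => rfl
  rw [this]
  exact LinearMap.lTensor_surjective _ hf

/-- the comultiplication of the base change -/
lemma comul_eq (x : K ⊗[k] A) : CoalgebraStruct.comul (R := K) x =
    TensorProduct.AlgebraTensorModule.distribBaseChange k K A A
      (LinearMap.lTensor K (CoalgebraStruct.comul (R := k) (A := A)) x) := by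
  induction x with
  | zero => simp
  | add x y hx hy => rw [map_add, map_add, map_add, hx, hy]
  | tmul κ a =>
    have h1 : κ ⊗ₜ[k] a = κ • ((1 : K) ⊗ₜ[k] a) := by
      rw [TensorProduct.smul_tmul', smul_eq_mul, mul_one]
    have h2 : LinearMap.lTensor K (CoalgebraStruct.comul (R := k) (A := A)) (κ ⊗ₜ[k] a) =
        κ • ((1 : K) ⊗ₜ[k] CoalgebraStruct.comul (R := k) a) := by
      rw [LinearMap.lTensor_tmul, TensorProduct.smul_tmul', smul_eq_mul, mul_one]
    rw [h2, h1, map_smul, map_smul]
    congr 1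
    exact comul_one_tmul a

/-- Coinvariants commute with base change. -/
theorem exists_of_coinv_bc (ψ : C →ₐc[k] A) (π : A →ₐc[k] D)
    (hπψ : ∀ c, π (ψ c) = algebraMap k D (CoalgebraStruct.counit (R := k) c))
    (hcoinv : ∀ x : A, LinearMap.lTensor A (π : A →ₗ[k] D) (CoalgebraStruct.comul (R := k) x) =
      x ⊗ₜ[k] (1 : D) → ∃ c, ψ c = x) (x : K ⊗[k] A)
    (hx : LinearMap.lTensor (K ⊗[k] A) (bcHom K π : (K ⊗[k] A) →ₗ[K] (K ⊗[k] D))
      (CoalgebraStruct.comul (R := K) x) = x ⊗ₜ[K] (1 : K ⊗[k] D)) :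
    ∃ c, bcHom K ψ c = x := by
  let φ : A →ₗ[k] A ⊗[k] D := LinearMap.lTensor A (π : A →ₗ[k] D) ∘ₗ
    CoalgebraStruct.comul (R := k) - (TensorProduct.mk k A D).flip 1
  have hex : Function.Exact (ψ : C →ₗ[k] A) φ := by
    intro a
    constructor
    · intro h
      obtain ⟨c, hc⟩ := hcoinv a (sub_eq_zero.mp h)
      exact ⟨c, hc⟩
    · rintro ⟨c, rfl⟩
      change LinearMap.lTensor A (π : A →ₗ[k] D) (CoalgebraStruct.comul (R := k) (ψ c)) -
        ψ c ⊗ₜ[k] (1 : D) = 0
      have h1 : CoalgebraStruct.comul (R := k) (ψ c) =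
          TensorProduct.map (ψ : C →ₗ[k] A) (ψ : C →ₗ[k] A) (CoalgebraStruct.comul (R := k) c) :=
        (CoalgHomClass.map_comp_comul_apply ψ c).symm
      have h2 : ∀ w : C ⊗[k] C, LinearMap.lTensor A (π : A →ₗ[k] D)
          (TensorProduct.map (ψ : C →ₗ[k] A) (ψ : C →ₗ[k] A) w) =
          ψ (TensorProduct.rid k C (LinearMap.lTensor C (CoalgebraStruct.counit (R := k)) w)) ⊗ₜ[k]
            (1 : D) := by
        intro w
        induction w with
        | zero => simp
        | add x y hx hy => simp only [map_add, hx, hy, TensorProduct.add_tmul]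
        | tmul p q =>
          rw [TensorProduct.map_tmul, LinearMap.lTensor_tmul, LinearMap.lTensor_tmul,
            TensorProduct.rid_tmul, map_smul]
          change ψ p ⊗ₜ[k] π (ψ q) = _
          rw [hπψ, Algebra.algebraMap_eq_smul_one, TensorProduct.tmul_smul, TensorProduct.smul_tmul']
      rw [h1, h2, Coalgebra.lTensor_counit_comul, TensorProduct.rid_tmul, one_smul, sub_self]
  have hexK := Module.Flat.lTensor_exact K hex
  have key : ∀ y : K ⊗[k] A, TensorProduct.AlgebraTensorModule.distribBaseChange k K A D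
      (LinearMap.lTensor K φ y) =
      LinearMap.lTensor (K ⊗[k] A) (bcHom K π : (K ⊗[k] A) →ₗ[K] (K ⊗[k] D))
      (CoalgebraStruct.comul (R := K) y) - y ⊗ₜ[K] (1 : K ⊗[k] D) := by
    intro y
    have e1 : LinearMap.lTensor K φ y = LinearMap.lTensor K (LinearMap.lTensor A (π : A →ₗ[k] D))
        (LinearMap.lTensor K (CoalgebraStruct.comul (R := k)) y) -
        LinearMap.lTensor K ((TensorProduct.mk k A D).flip 1) y := by
      rw [LinearMap.lTensor_sub, LinearMap.sub_apply, LinearMap.lTensor_comp]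
      rfl
    have e2 : ∀ z : K ⊗[k] (A ⊗[k] A), TensorProduct.AlgebraTensorModule.distribBaseChange k K A D
        (LinearMap.lTensor K (LinearMap.lTensor A (π : A →ₗ[k] D)) z) =
        LinearMap.lTensor (K ⊗[k] A) (bcHom K π : (K ⊗[k] A) →ₗ[K] (K ⊗[k] D))
          (TensorProduct.AlgebraTensorModule.distribBaseChange k K A A z) := by
      intro z
      induction z with
      | zero => simp
      | add x y hx hy => simp only [map_add, hx, hy]
      | tmul κ w =>
        induction w with
        | zero => simp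
        | add x y hx hy => simp only [map_add, TensorProduct.tmul_add, hx, hy]
        | tmul p q =>
          simp only [LinearMap.lTensor_tmul,
            TensorProduct.AlgebraTensorModule.distribBaseChange_tmul]
          rfl
    have e3 : TensorProduct.AlgebraTensorModule.distribBaseChange k K A D
        (LinearMap.lTensor K ((TensorProduct.mk k A D).flip 1) y) = y ⊗ₜ[K] (1 : K ⊗[k] D) := by
      clear e1
      induction y with
      | zero => simp
      | add x y hx hy => simp only [map_add, TensorProduct.add_tmul, hx, hy]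
      | tmul κ a =>
        simp only [LinearMap.lTensor_tmul, LinearMap.flip_apply, TensorProduct.mk_apply,
          TensorProduct.AlgebraTensorModule.distribBaseChange_tmul]
        rfl
    rw [e1, map_sub, e2, e3, ← comul_eq]
  have h1 : LinearMap.lTensor K φ x = 0 := by
    apply (TensorProduct.AlgebraTensorModule.distribBaseChange k K A D).injective
    rw [key, hx, sub_self, map_zero]
  obtain ⟨c, hc⟩ := (hexK x).mp h1
  refine ⟨c, ?_⟩
  rw [← hc]
  clear hc h1
  induction c with
  | zero => simp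
  | add x y hx hy => rw [map_add, map_add, hx, hy]
  | tmul x y => rfl

lemma bc_pi_psi (ψ : C →ₐc[k] A) (π : A →ₐc[k] D)
    (hπψ : ∀ c, π (ψ c) = algebraMap k D (CoalgebraStruct.counit (R := k) c)) (x : K ⊗[k] C) :
    bcHom K π (bcHom K ψ x) =
      algebraMap K (K ⊗[k] D) (CoalgebraStruct.counit (R := K) x) := by
  induction x with
  | zero => simp
  | add x y hx hy => rw [map_add, map_add, map_add, map_add, hx, hy]
  | tmul κ c =>
    rw [bcHom_tmul, bcHom_tmul, hπψ, TensorProduct.counit_tmul, Algebra.algebraMap_eq_smul_one,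
      Algebra.algebraMap_eq_smul_one, CommSemiring.counit_apply, TensorProduct.tmul_smul,
      Algebra.TensorProduct.one_def, TensorProduct.smul_tmul', TensorProduct.smul_tmul',
      smul_assoc, smul_eq_mul, mul_one]

end BC

section Gal

variable {k : Type u} [Field k] {K : Type u} [Field K] [Algebra k K]

/-- Galois-invariant elements of the base change come from below. -/
theorem exists_of_fixed [IsGalois k K] {C : Type u} [CommRing C] [Bialgebra k C] (x : K ⊗[k] C)
    (hx : ∀ σ : K ≃ₐ[k] K, bc C (σ : K →ₐ[k] K) x = x) : ∃ c : C, (1 : K) ⊗ₜ[k] c = x := by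
  classical
  let b := Module.Basis.ofVectorSpace k C
  let B := b.baseChange K
  have hB : ∀ i, B i = (1 : K) ⊗ₜ[k] b i := fun i => Module.Basis.baseChange_apply _ _ _
  have hrepr : ∀ (σ : K ≃ₐ[k] K) (y : K ⊗[k] C) i, B.repr (bc C (σ : K →ₐ[k] K) y) i =
      σ (B.repr y i) := by
    intro σ y i
    conv_lhs => rw [← B.linearCombination_repr y]
    rw [Finsupp.linearCombination_apply, Finsupp.sum, map_sum, map_sum, Finsupp.finsetSum_apply]
    have h1 : ∀ j, bc C (σ : K →ₐ[k] K) (B j) = B j := by
      intro j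
      rw [hB, bc_tmul, map_one]
    simp only [bc_smul, map_smul, h1, Module.Basis.repr_self, Finsupp.smul_apply,
      Finsupp.single_apply, smul_eq_mul, mul_ite, mul_one, mul_zero]
    rw [Finset.sum_ite_eq' (B.repr y).support i (fun j => (σ : K →ₐ[k] K) (B.repr y j))]
    split_ifs with h
    · rfl
    · simp only [Finsupp.mem_support_iff, not_not] at h
      rw [h, map_zero]
  have hfix : ∀ i, ∃ c : k, algebraMap k K c = B.repr x i := by
    intro i
    have := (InfiniteGalois.mem_range_algebraMap_iff_fixed (k := k) (K := K) (B.repr x i)).mpr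
      (fun σ => by rw [← hrepr, hx])
    exact this
  choose c hc using hfix
  refine ⟨∑ i ∈ (B.repr x).support, c i • b i, ?_⟩
  conv_rhs => rw [← B.linearCombination_repr x]
  rw [Finsupp.linearCombination_apply, Finsupp.sum, TensorProduct.tmul_sum]
  refine Finset.sum_congr rfl fun i _ => ?_
  rw [hB, ← hc, TensorProduct.tmul_smul, algebraMap_smul]

end Gal

end Groth.Agent.Sga3.H809.Transfer
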